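import Mathlib
import Cfsg.Agent.Prune
set_option linter.all false
prune_inst 0x7f00000000000000000000000000000000000000000000000000000000000000000000000000000000000000000000000000000000000000000000000000000000000000000000000000000000000000003fffffffffffffffffffffffffffbeffbdffffffff
open scoped Cfsg.Agent.FastGrp

/-!
# Nonabelian composition factors of a group with a series solvable - simple - solvable (helper414)

`equiv_of_factor` : `K ⊲ G` solvable, `S ⊲ G / K` simple with `(G / K) / S` solvable: a nonabelian simple quotient `H / N`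
of a subnormal subgroup `H` of `G` is isomorphic to `S`.
-/

set_option autoImplicit false

namespace Cfsg.Agent.H414.CompFactor

open Subgroup

/-- A solvable simple group is commutative. -/
theorem comm_of_solvable {Q : Type*} [Group Q] [IsSimpleGroup Q] (h : Group.IsSolvable Q) : IsMulCommutative Q :=
  ⟨⟨IsSimpleGroup.comm_iff_isSolvable.2 h⟩⟩

theorem equiv_of_factor {G : Type*} [Group G] (K : Subgroup G) [K.Normal] (hK : Group.IsSolvable ↥K)
    (S : Subgroup (G ⧸ K)) [S.Normal] [IsSimpleGroup ↥S] (hq : Group.IsSolvable ((G ⧸ K) ⧸ S))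
    (H : Subgroup G) (hH : H.IsSubnormal) (N : Subgroup ↥H) [N.Normal] [IsSimpleGroup (↥H ⧸ N)]
    (hna : ¬ IsMulCommutative (↥H ⧸ N)) : Nonempty (↥H ⧸ N ≃* ↥S) := by
  classical
  -- solvable normal subgroups of `H` lie in `N`
  have hsolv : ∀ A : Subgroup ↥H, A.Normal → Group.IsSolvable ↥A → A ≤ N := by
    intro A hA hAs
    have hn : (A.map (QuotientGroup.mk' N)).Normal := hA.map _ (QuotientGroup.mk'_surjective N)
    rcases hn.eq_bot_or_eq_top with h | h
    · rw [Subgroup.map_eq_bot_iff, QuotientGroup.ker_mk'] at h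
      exact h
    · exfalso
      apply hna
      apply comm_of_solvable
      have h1 : Group.IsSolvable ↥(A.map (QuotientGroup.mk' N)) :=
        Group.isSolvable_of_surjective (f := (QuotientGroup.mk' N).subgroupMap A)
          ((QuotientGroup.mk' N).subgroupMap_surjective A)
      rw [h] at h1
      exact Group.isSolvable_of_surjective (f := (Subgroup.topEquiv (G := ↥H ⧸ N)).toMonoidHom)
        Subgroup.topEquiv.surjective
  -- normal subgroups of `H` with solvable quotient are not contained in `N`
  have hquot : ∀ A : Subgroup ↥H, ∀ _ : A.Normal, Group.IsSolvable (↥H ⧸ A) → A.map (QuotientGroup.mk' N) = ⊤ := by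
    intro A hA hAs
    have hn : (A.map (QuotientGroup.mk' N)).Normal := hA.map _ (QuotientGroup.mk'_surjective N)
    rcases hn.eq_bot_or_eq_top with h | h
    · exfalso
      rw [Subgroup.map_eq_bot_iff, QuotientGroup.ker_mk'] at h
      apply hna
      apply comm_of_solvable
      refine Group.isSolvable_of_surjective (f := QuotientGroup.map A N (MonoidHom.id ↥H) h) ?_
      intro y
      obtain ⟨x, rfl⟩ := QuotientGroup.mk'_surjective N y
      exact ⟨QuotientGroup.mk' _ x, rfl⟩
    · exact h
  have hKH : K.subgroupOf H ≤ N := by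
    refine hsolv _ inferInstance ?_
    refine Group.isSolvable_of_isSolvable_injective
      (f := (H.subtype.domRestrict (K.subgroupOf H)).codRestrict K fun x => x.2) (fun a b hab => ?_)
    have h1 := congrArg Subtype.val hab
    exact Subtype.ext (Subtype.ext h1)
  set M : Subgroup G := S.comap (QuotientGroup.mk' K) with hM
  -- `S ≤ H K / K`
  have hsub : (H.map (QuotientGroup.mk' K)).IsSubnormal := hH.quotient
  have hS : S ≤ H.map (QuotientGroup.mk' K) := by
    rcases (hsub.subgroupOf (K := S)).eq_bot_or_top_of_isSimpleGroup inferInstance with h | h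
    · exfalso
      rw [Subgroup.subgroupOf_eq_bot, disjoint_iff] at h
      -- `H` maps to `(G / K) / S` with kernel `H ∩ K`
      let f : ↥H →* (G ⧸ K) ⧸ S := (QuotientGroup.mk' S).comp ((QuotientGroup.mk' K).comp H.subtype)
      have hker : f.ker = K.subgroupOf H := by
        ext x
        rw [MonoidHom.mem_ker, Subgroup.mem_subgroupOf]
        constructor
        · intro hx
          have h1 : QuotientGroup.mk' K (x : G) ∈ S := (QuotientGroup.eq_one_iff _).1 hx
          have h2 : QuotientGroup.mk' K (x : G) ∈ H.map (QuotientGroup.mk' K) ⊓ S := ⟨⟨x, x.2, rfl⟩, h1⟩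
          rw [h, Subgroup.mem_bot] at h2
          exact (QuotientGroup.eq_one_iff (x : G)).1 h2
        · intro hx
          have h1 : QuotientGroup.mk' K (x : G) = 1 := (QuotientGroup.eq_one_iff (x : G)).2 hx
          show QuotientGroup.mk' S (QuotientGroup.mk' K (x : G)) = 1
          rw [h1, map_one]
      have h2 := hquot (K.subgroupOf H) inferInstance (by
        have h3 : Group.IsSolvable (↥H ⧸ f.ker) :=
          Group.isSolvable_of_isSolvable_injective (f := QuotientGroup.kerLift f) (QuotientGroup.kerLift_injective f)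
        refine Group.isSolvable_of_surjective (f := QuotientGroup.map f.ker (K.subgroupOf H) (MonoidHom.id ↥H) hker.le) ?_
        intro y
        obtain ⟨x, rfl⟩ := QuotientGroup.mk'_surjective _ y
        exact ⟨QuotientGroup.mk' _ x, rfl⟩)
      have h3 : (K.subgroupOf H).map (QuotientGroup.mk' N) = ⊥ := by
        rw [Subgroup.map_eq_bot_iff, QuotientGroup.ker_mk']
        exact hKH
      rw [h3] at h2
      exact bot_ne_top h2
    · exact Subgroup.subgroupOf_eq_top.1 h
  -- `H ∩ M` maps onto `H / N`
  have htop : (M.subgroupOf H).map (QuotientGroup.mk' N) = ⊤ := by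
    apply hquot _ inferInstance
    let f : ↥H →* (G ⧸ K) ⧸ S := (QuotientGroup.mk' S).comp ((QuotientGroup.mk' K).comp H.subtype)
    have hker : f.ker ≤ M.subgroupOf H := by
      intro x hx
      have h1 : QuotientGroup.mk' S (QuotientGroup.mk' K (x : G)) = 1 := hx
      rw [Subgroup.mem_subgroupOf, hM, Subgroup.mem_comap]
      exact (QuotientGroup.eq_one_iff (QuotientGroup.mk' K (x : G))).1 h1
    have h3 : Group.IsSolvable (↥H ⧸ f.ker) :=
      Group.isSolvable_of_isSolvable_injective (f := QuotientGroup.kerLift f) (QuotientGroup.kerLift_injective f)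
    refine Group.isSolvable_of_surjective (f := QuotientGroup.map f.ker (M.subgroupOf H) (MonoidHom.id ↥H) hker) ?_
    intro y
    obtain ⟨x, rfl⟩ := QuotientGroup.mk'_surjective _ y
    exact ⟨QuotientGroup.mk' _ x, rfl⟩
  -- the two surjections from `H ∩ M`
  let f : ↥(M.subgroupOf H) →* ↥H ⧸ N := (QuotientGroup.mk' N).comp (M.subgroupOf H).subtype
  have hf : Function.Surjective f := by
    intro y
    have hy : y ∈ (M.subgroupOf H).map (QuotientGroup.mk' N) := by rw [htop]; trivial
    obtain ⟨x, hx, rfl⟩ := hy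
    exact ⟨⟨x, hx⟩, rfl⟩
  let g : ↥(M.subgroupOf H) →* ↥S :=
    (((QuotientGroup.mk' K).comp H.subtype).comp (M.subgroupOf H).subtype).codRestrict S fun x => x.2
  have hg : Function.Surjective g := by
    rintro ⟨y, hy⟩
    obtain ⟨x, hx, rfl⟩ := hS hy
    exact ⟨⟨⟨x, hx⟩, hy⟩, rfl⟩
  have hker : g.ker ≤ f.ker := by
    intro x hx
    have h1 : QuotientGroup.mk' K ((x : ↥H) : G) = 1 := congrArg Subtype.val hx
    have h2 : ((x : ↥H) : G) ∈ K := (QuotientGroup.eq_one_iff _).1 h1
    have h3 : (x : ↥H) ∈ N := hKH h2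
    exact (QuotientGroup.eq_one_iff (x : ↥H)).2 h3
  let l : ↥S →* ↥H ⧸ N := g.liftOfSurjective hg ⟨f, hker⟩
  have hl : ∀ x, l (g x) = f x := fun x => MonoidHom.liftOfRightInverse_comp_apply g _ _ ⟨f, hker⟩ x
  have hlsurj : Function.Surjective l := by
    intro y
    obtain ⟨x, rfl⟩ := hf y
    exact ⟨g x, hl x⟩
  have hlinj : Function.Injective l := by
    rcases (inferInstance : l.ker.Normal).eq_bot_or_eq_top with h | h
    · exact (MonoidHom.ker_eq_bot_iff l).1 h
    · exfalso
      obtain ⟨y, hy⟩ := exists_ne (1 : ↥H ⧸ N)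
      obtain ⟨s, rfl⟩ := hlsurj y
      have h1 : s ∈ l.ker := by rw [h]; trivial
      exact hy h1
  exact ⟨(MulEquiv.ofBijective l ⟨hlinj, hlsurj⟩).symm⟩

end Cfsg.Agent.H414.CompFactor
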