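import Cfsg.Agent.H414.Rad
import Cfsg.Agent.KFacts.RgdAut
import Cfsg.Agent.KFacts.RgdLieCharP
import Cfsg.Agent.Schreier.BNUse
import Cfsg.Agent.Schreier.TwFFour
import Cfsg.Agent.Mrg.Omega.EH3.ESix.Main_m3
import Cfsg.Agent.OddHalf.D4.Spor.J1Out
import Cfsg.Agent.S0205
import Cfsg.Agent.S1073
import Cfsg.Agent.S1152
import Cfsg.Agent.S1157
import Cfsg.Agent.S1163
import Cfsg.Agent.S0000
import Cfsg.Agent.S5758
import Cfsg.Agent.S3633
import Cfsg.Agent.H436.Simple
import Cfsg.Agent.SignalizersComponents.ComponentExists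
import Cfsg.Agent.H414.CompFactor
import Cfsg.Agent.H477.ElemNormal
import Cfsg.Agent.H366.X.Row
import Cfsg.Agent.H395.Coclique
import Cfsg.Agent.FastGrp
import Cfsg.Agent.Prune
set_option linter.all false

section
prune_inst 0x7ffcfefb8ff8bddfffff7e7ffefddffffdfcffffffdffbfbfffcfbffafdf6b0efbe5fba7ffe850ff0ef6e29e30f87b53f9ffdeffef6bfd7ffffd5ff45ffbff9ffffebf8d71f7bc3e0fbc6ffff3f17fce7f3fffffffffffffffffffffffffffbeffffffffffff

-- part: H414/Vasiliev
section
prune_inst 0x4000000000000000000000000000000000000000000000000000000004000000000000000000000000000000020020000000000000000000000000000000000000000000000000000000000000000000000000000000000000000000000000000000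
set_option linter.all false
open scoped Cfsg.Agent.FastGrp

-- part: H414/GoodRgd
section
/-!
# Groups with a root group datum are `Good` (helper414)

`good_of_hasFilt`: simple groups with a filtered root group datum: an automorphism fixes, up to inner ones, `B` and `B⁻`,
which are interchanged by a representative of the longest element.
-/

set_option autoImplicit false

namespace Cfsg.Agent.H414.GoodRgd

open CoxeterSystem Cfsg.Agent.ChevalleyStructure.CoxeterGeom Cfsg.Agent.Tits.Roots Cfsg.Agent.Tits.Core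
  Cfsg.Agent.Tits.Exchange Cfsg.Agent.Nodes.Reps Cfsg.Agent.Nodes.BNOf
  Cfsg.Agent.Nodes.Bruhat Cfsg.Agent.Nodes.OppDec Cfsg.Agent.Nodes.LeviDec
  Cfsg.Agent.KFacts.RgdAut Cfsg.Agent.KFacts.RgdFilt Cfsg.Agent.H414.Good

open scoped Pointwise

theorem good_of_rgd {I W Y : Type*} [Fintype I] [DecidableEq I] [Group W] [Group Y] {M : CoxeterMatrix I}
    {cs : CoxeterSystem M W} {A : I → I → ℤ} {h : IsCartan M A} {p : ℕ} {T : Subgroup Y} {n : I → Y}
    {X : (I → ℤ) → Subgroup Y} [Finite W] [Finite Y] [Fact p.Prime] (R : RGD cs h p T n X) (hG : GG cs h T X = ⊤)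
    [hI : Nonempty I] : Good Y := by
  intro τ _
  right
  obtain ⟨S, hS⟩ := Cfsg.Agent.KFacts.RgdAutFacts.exists_sylow R hG
  -- `conj k * τ` normalises `U`
  obtain ⟨k, hk⟩ := MulAction.exists_smul_eq Y (τ • S) S
  have hfix : Fix (MulAut.conj k * τ) (RGD.Sup X (RGD.Pos cs h)) := by
    rw [← hS, fix_iff]
    have h1 : ((k • (τ • S) : Sylow p Y) : Subgroup Y) = S := by rw [hk]
    rw [Sylow.smul_def, Sylow.pointwise_smul_def, Sylow.pointwise_smul_def, smul_smul] at h1
    exact h1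
  obtain ⟨u, -, -, h2, -, h3, -⟩ := exists_frame R hG hfix
  obtain ⟨k₀, hk₀⟩ := exists_rp cs R.nsys (w0 cs)
  refine ⟨u * k, k₀, RGD.B cs h T X, BN cs h T X, ?_, ?_, ?_, ?_, ?_⟩
  · intro he
    obtain ⟨i⟩ := hI
    have h4 : X (sr i) = ⊥ := by
      rw [eq_bot_iff]
      intro x hx
      have h5 : x ∈ RGD.Sup X (RGD.Pos cs h) := RGD.le_Sup (S := RGD.Pos cs h) ⟨isRoot_sr cs h i, sr_nonneg i⟩ hx
      rw [Subgroup.mem_bot]
      refine eq_one_of_mem_U_of_mem_BN R h5 ?_
      rw [← he]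
      exact (le_sup_right : RGD.Sup X (RGD.Pos cs h) ≤ RGD.B cs h T X) h5
    exact X_ne_bot R (isRoot_sr cs h i) h4
  · intro a
    rw [← cj_B R hk₀]
    exact conj_mem_cj.symm
  · intro a
    rw [← cj_BN R hk₀]
    exact conj_mem_cj.symm
  · intro a
    have := h2 a
    rwa [← mul_assoc, ← map_mul] at this
  · intro a
    have := h3 a
    rwa [← mul_assoc, ← map_mul] at this

theorem good_of_hasFilt {p : ℕ} {G : Type*} [Group G] [Finite G] [IsSimpleGroup G] (hp : p.Prime)
    (hc : ∃ a b : G, a * b ≠ b * a) (hG : HasFilt p G) : Good G := by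
  have := Fact.mk hp
  obtain ⟨l, M, A, h, T, n, X, R, hW, hBT, hGG, hN, hconn, hX, hl⟩ := hG.data hc
  have : Nonempty (Fin l) := ⟨⟨0, hl⟩⟩
  exact good_of_rgd R hGG

end Cfsg.Agent.H414.GoodRgd
end

-- part: H414/GoodBN
section
/-!
# `Good` for groups with a (B, N)-pair of rank at most two and for doubly transitive groups (helper414)

* `good_of_bn` : `B = N(U)`, `U` a Sylow subgroup, at most two minimal parabolics;
* `good_of_two_transitive` : `K` doubly transitive on the cosets of the normaliser of a Sylow subgroup;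
* `good_of_eight` : Sylow 2-subgroups elementary abelian of order 8, self-centralising, with `7 ∣ |N(S)|`.
-/

set_option autoImplicit false

namespace Cfsg.Agent.H414.GoodBN

open Subgroup Cfsg.Agent.H414.Adj Cfsg.Agent.H414.Good Cfsg.Agent.Schreier.BNSch
open scoped Pointwise

variable {K : Type*} [Group K] [Finite K]

/-- Up to inner automorphisms an automorphism fixes a given Sylow subgroup. -/
theorem exists_fix_sylow {p : ℕ} [Fact p.Prime] (U : Sylow p K) (τ : MulAut K) :
    ∃ k : K, ∀ a, (MulAut.conj k * τ) a ∈ (U : Subgroup K) ↔ a ∈ (U : Subgroup K) := by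
  obtain ⟨k, hk⟩ := MulAction.exists_smul_eq K (τ • U) U
  refine ⟨k, fun a => ?_⟩
  have h1 : ((k • (τ • U) : Sylow p K) : Subgroup K) = U := by rw [hk]
  rw [Sylow.smul_def, Sylow.pointwise_smul_def, Sylow.pointwise_smul_def, smul_smul] at h1
  conv_lhs => rw [← h1]
  exact Subgroup.smul_mem_pointwise_smul_iff

omit [Finite K] in
theorem fix_normalizer {α : MulAut K} {H : Subgroup K} (hα : ∀ a, α a ∈ H ↔ a ∈ H) (x : K) :
    α x ∈ Subgroup.normalizer (H : Set K) ↔ x ∈ Subgroup.normalizer (H : Set K) := by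
  have hinv : ∀ a, α⁻¹ a ∈ H ↔ a ∈ H := fun a => by rw [← hα, MulAut.apply_inv_self]
  rw [Subgroup.mem_normalizer_iff, Subgroup.mem_normalizer_iff]
  constructor
  · intro h a
    have h1 := h (α a)
    rw [← map_mul, ← map_inv, ← map_mul, hα, hα] at h1
    exact h1
  · intro h a
    have h1 := h (α⁻¹ a)
    rw [← hα (x * α⁻¹ a * x⁻¹), map_mul, map_mul, map_inv, MulAut.apply_inv_self, hinv] at h1
    exact h1

omit [Finite K] in
/-- powers of an automorphism of odd order modulo inner automorphisms -/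
theorem pow_conj_mul (τ : MulAut K) (k : K) (n : ℕ) : ∃ y : K, (MulAut.conj k * τ) ^ n = MulAut.conj y * τ ^ n := by
  induction n with
  | zero => exact ⟨1, by simp⟩
  | succ n ih =>
    obtain ⟨y, hy⟩ := ih
    refine ⟨y * (τ ^ n) k, ?_⟩
    rw [pow_succ, hy, pow_succ, map_mul]
    apply MulEquiv.ext
    intro x
    simp only [MulAut.mul_apply, MulAut.conj_apply, map_mul, map_inv, mul_assoc]

/-- **(B, N)-pairs of rank at most two.** -/
theorem good_of_bn (P : Cfsg.BNPair K) {p : ℕ} [Fact p.Prime] (U : Sylow p K)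
    (hB : Subgroup.normalizer ((U : Subgroup K) : Set K) = P.B) (h2 : Nat.card P.S ≤ 2) (hne : P.S.Nonempty) :
    Good K := by
  classical
  intro τ hτ
  right
  obtain ⟨k, hk⟩ := exists_fix_sylow U τ
  set α : MulAut K := MulAut.conj k * τ with hα
  have hαB : ∀ a, α a ∈ P.B ↔ a ∈ P.B := by
    rw [← hB]
    exact fix_normalizer hk
  have hαB' : P.B.map α.toMonoidHom = P.B := by
    ext x
    constructor
    · rintro ⟨y, hy, rfl⟩
      exact (hαB y).2 hy
    · intro hx
      refine ⟨α⁻¹ x, ?_, MulAut.apply_inv_self _ α x⟩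
      rw [SetLike.mem_coe, ← hαB, MulAut.apply_inv_self]
      exact hx
  obtain ⟨s, hs⟩ := hne
  -- `α` fixes the parabolic `P_s`
  have hpar : (P.parabolic {s}).map α.toMonoidHom = P.parabolic {s} := by
    obtain ⟨t, ht, hst⟩ := exists_map_eq P α hαB' hs
    by_cases hts : t = s
    · rw [hst, hts]
    obtain ⟨t', ht', htt⟩ := exists_map_eq P α hαB' ht
    have hinj : ∀ a ∈ P.S, ∀ b ∈ P.S, P.parabolic {a} = P.parabolic {b} → a = b := by
      intro a ha b hb hab
      exact Set.singleton_subset_singleton.1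
        ((parabolic_le_iff P (Set.singleton_subset_iff.2 ha) (Set.singleton_subset_iff.2 hb)).1 hab.le)
    have ht's : t' = s := by
      by_contra hne'
      have h3 : t' ≠ t := by
        rintro rfl
        apply hts
        apply hinj _ ht _ hs
        apply Subgroup.map_injective (f := α.toMonoidHom) α.injective
        rw [htt, hst]
      have h4 : ({s, t, t'} : Finset K).card ≤ Nat.card P.S := by
        have hfin : Finite P.S := inferInstance
        rw [Nat.card_coe_set_eq, ← Set.ncard_coe_finset]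
        apply Set.ncard_le_ncard _ (Set.toFinite _)
        intro x hx
        simp only [Finset.coe_insert, Finset.coe_singleton, Set.mem_insert_iff, Set.mem_singleton_iff] at hx
        rcases hx with rfl | rfl | rfl <;> assumption
      rw [Finset.card_insert_of_notMem, Finset.card_insert_of_notMem, Finset.card_singleton] at h4
      · omega
      · simpa using Ne.symm h3
      · simp only [Finset.mem_insert, Finset.mem_singleton, not_or]
        exact ⟨fun h => hts h.symm, fun h => hne' h.symm⟩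
    -- odd powers of `α` interchange the two parabolics
    have hodd : ∀ n : ℕ, (P.parabolic {s}).map (α ^ (2 * n)).toMonoidHom = P.parabolic {s} := by
      intro n
      induction n with
      | zero =>
        rw [mul_zero, pow_zero]
        ext x
        constructor
        · rintro ⟨y, hy, rfl⟩
          exact hy
        · intro hx
          exact ⟨x, hx, rfl⟩
      | succ n ih =>
        have h5 : (P.parabolic {s}).map (α ^ (2 * (n + 1))).toMonoidHom =
            (((P.parabolic {s}).map (α ^ (2 * n)).toMonoidHom).map α.toMonoidHom).map α.toMonoidHom := by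
          rw [Subgroup.map_map, Subgroup.map_map]
          congr 1
          ext x
          show (α ^ (2 * (n + 1))) x = α (α ((α ^ (2 * n)) x))
          rw [show 2 * (n + 1) = 1 + (1 + 2 * n) by ring, pow_add, pow_one, pow_add, pow_one]
          rfl
        rw [h5, ih, hst, htt, ht's]
    obtain ⟨m, hm⟩ := hτ
    obtain ⟨y, hy⟩ := pow_conj_mul τ k (orderOf τ)
    rw [pow_orderOf_eq_one, mul_one, ← hα] at hy
    -- `y ∈ B`
    have hpow : ∀ n : ℕ, ∀ a, (α ^ n) a ∈ (U : Subgroup K) ↔ a ∈ (U : Subgroup K) := by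
      intro n
      induction n with
      | zero => intro a; rfl
      | succ n ih =>
        intro a
        rw [pow_succ, MulAut.mul_apply, ih, hk]
    have hyB : y ∈ P.B := by
      rw [← hB, Subgroup.mem_normalizer_iff]
      intro a
      have := hpow (orderOf τ) a
      rw [hy, MulAut.conj_apply] at this
      exact this.symm
    have h6 : (P.parabolic {s}).map (α ^ (orderOf τ)).toMonoidHom = P.parabolic {s} := by
      rw [hy]
      ext x
      constructor
      · rintro ⟨z, hz, rfl⟩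
        show y * z * y⁻¹ ∈ _
        exact mul_mem (mul_mem (B_le_parabolic P _ hyB) hz) (inv_mem (B_le_parabolic P _ hyB))
      · intro hx
        refine ⟨y⁻¹ * x * y, mul_mem (mul_mem (inv_mem (B_le_parabolic P _ hyB)) hx) (B_le_parabolic P _ hyB), ?_⟩
        show y * (y⁻¹ * x * y) * y⁻¹ = x
        group
    have h7 : (P.parabolic {s}).map (α ^ (orderOf τ)).toMonoidHom = P.parabolic {t} := by
      have h8 : (P.parabolic {s}).map (α ^ (orderOf τ)).toMonoidHom =
          ((P.parabolic {s}).map (α ^ (2 * m)).toMonoidHom).map α.toMonoidHom := by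
        rw [Subgroup.map_map]
        congr 1
        ext x
        show (α ^ (orderOf τ)) x = α ((α ^ (2 * m)) x)
        rw [hm, pow_succ']
        rfl
      rw [h8, hodd, hst]
    rw [← h7, h6] at hst
    exact hst
  -- adjust `α` by an element of `B`
  have hαs : α s ∈ P.parabolic {s} := by
    rw [← hpar]
    exact ⟨s, mem_parabolic_self P s, rfl⟩
  have hαs' : α s ∉ P.B := by
    rw [hαB]
    exact not_mem_B P hs
  rcases mem_parabolic_singleton P hs hαs with h | ⟨b, hb, b', hb', hbb⟩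
  · exact absurd h hαs'
  have hss := P.sq_mem s hs
  have hconjB : ∀ (y : K), y ∈ P.B → ∀ a, y * a * y⁻¹ ∈ P.B ↔ a ∈ P.B := by
    intro y hy a
    constructor
    · intro h
      have h1 : a = y⁻¹ * (y * a * y⁻¹) * y := by group
      rw [h1]
      exact mul_mem (mul_mem (inv_mem hy) h) hy
    · intro h
      exact mul_mem (mul_mem hy h) (inv_mem hy)
  have hβ : ∀ a, (MulAut.conj (b⁻¹ * k) * τ) a = b⁻¹ * α a * b := by
    intro a
    rw [hα, MulAut.mul_apply, MulAut.mul_apply, MulAut.conj_apply, MulAut.conj_apply]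
    group
  refine ⟨b⁻¹ * k, s, P.B, P.B.map (MulAut.conj s).toMonoidHom, ?_, ?_, ?_, ?_, ?_⟩
  · intro he
    apply P.conj_ne s hs
    have h1 : ∀ x ∈ P.B, s * x * s⁻¹ ∈ P.B := by
      intro x hx
      rw [he]
      exact ⟨x, hx, rfl⟩
    have h2 : ∀ x ∈ P.B, s⁻¹ * x * s ∈ P.B := by
      intro x hx
      have h3 : s⁻¹ * x * s = (s * s)⁻¹ * (s * x * s⁻¹) * (s * s) := by group
      rw [h3]
      exact mul_mem (mul_mem (inv_mem hss) (h1 x hx)) hss
    ext x
    constructor
    · rintro ⟨y, hy, rfl⟩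
      have h3 : s * y * s = (s * y * s⁻¹) * (s * s) := by group
      show s * y * s ∈ P.B
      rw [h3]
      exact mul_mem (h1 y hy) hss
    · intro hx
      refine ⟨(s⁻¹ * x * s) * (s * s)⁻¹, mul_mem (h2 x hx) (inv_mem hss), ?_⟩
      show s * ((s⁻¹ * x * s) * (s * s)⁻¹) * s = x
      group
  · intro a
    constructor
    · intro ha
      exact ⟨a, ha, rfl⟩
    · rintro ⟨y, hy, hya⟩
      have h1 : s * y * s⁻¹ = s * a * s⁻¹ := hya
      have h2 : y = a := by simpa using h1
      rwa [← h2]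
  · intro a
    constructor
    · rintro ⟨y, hy, rfl⟩
      show s * (s * y * s⁻¹) * s⁻¹ ∈ P.B
      have h1 : s * (s * y * s⁻¹) * s⁻¹ = (s * s) * y * (s * s)⁻¹ := by group
      rw [h1]
      exact (hconjB _ hss y).2 hy
    · intro ha
      refine ⟨s⁻¹ * a * s, ?_, by show s * (s⁻¹ * a * s) * s⁻¹ = a; group⟩
      have h1 : s⁻¹ * a * s = (s * s)⁻¹ * (s * a * s⁻¹) * ((s * s)⁻¹)⁻¹ := by group
      show s⁻¹ * a * s ∈ P.B
      rw [h1]
      exact (hconjB _ (inv_mem hss) _).2 ha
  · intro a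
    rw [hβ]
    have := hconjB b⁻¹ (inv_mem hb) (α a)
    rw [inv_inv] at this
    rw [this, hαB]
  · -- `β (s x s⁻¹) = s (b' b) β(x) (b' b)⁻¹ s⁻¹`
    have key : ∀ x : K, (MulAut.conj (b⁻¹ * k) * τ) (s * x * s⁻¹) =
        s * ((b' * b) * (b⁻¹ * α x * b) * (b' * b)⁻¹) * s⁻¹ := by
      intro x
      rw [hβ, map_mul, map_mul, map_inv, hbb]
      group
    have hmem : ∀ a : K, a ∈ P.B.map (MulAut.conj s).toMonoidHom ↔ s⁻¹ * a * s ∈ P.B := by
      intro a
      constructor
      · rintro ⟨y, hy, rfl⟩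
        have h1 : s⁻¹ * (MulAut.conj s).toMonoidHom y * s = y := by
          show s⁻¹ * (s * y * s⁻¹) * s = y
          group
        rwa [h1]
      · intro h
        exact ⟨_, h, by show s * (s⁻¹ * a * s) * s⁻¹ = a; group⟩
    intro a
    rw [hmem, hmem]
    have h1 : a = s * (s⁻¹ * a * s) * s⁻¹ := by group
    conv_lhs => rw [h1, key]
    have h2 : s⁻¹ * (s * (b' * b * (b⁻¹ * α (s⁻¹ * a * s) * b) * (b' * b)⁻¹) * s⁻¹) * s =
        (b' * b) * (b⁻¹ * α (s⁻¹ * a * s) * b) * (b' * b)⁻¹ := by group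
    rw [h2, hconjB _ (mul_mem hb' hb)]
    have := hconjB b⁻¹ (inv_mem hb) (α (s⁻¹ * a * s))
    rw [inv_inv] at this
    rw [this, hαB]

/-- **Doubly transitive groups.** -/
theorem good_of_two_transitive {p : ℕ} [Fact p.Prime] (U : Sylow p K)
    (h2 : MulAction.IsMultiplyPretransitive K (K ⧸ Subgroup.normalizer ((U : Subgroup K) : Set K)) 2)
    (hne : Subgroup.normalizer ((U : Subgroup K) : Set K) ≠ ⊤) : Good K := by
  intro τ _
  right
  obtain ⟨k, hk⟩ := exists_fix_sylow U τ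
  set α : MulAut K := MulAut.conj k * τ with hα
  set H : Subgroup K := Subgroup.normalizer ((U : Subgroup K) : Set K) with hH
  have hαH : ∀ a, α a ∈ H ↔ a ∈ H := fix_normalizer hk
  obtain ⟨g, hg⟩ : ∃ g, g ∉ H := by
    by_contra h
    push Not at h
    exact hne (eq_top_iff.2 fun x _ => h x)
  have hαg : α g ∉ H := by rwa [hαH]
  rw [MulAction.is_two_pretransitive_iff] at h2
  have hne1 : ∀ x : K, x ∉ H → ((1 : K) : K ⧸ H) ≠ (x : K ⧸ H) := by
    intro x hx h
    rw [QuotientGroup.eq, inv_one, one_mul] at h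
    exact hx h
  obtain ⟨b, hb1, hb2⟩ := h2 (hne1 _ hαg) (hne1 _ hg)
  obtain ⟨s, hs1, hs2⟩ := h2 (hne1 _ hg) (hne1 _ hg).symm
  have hbH : b ∈ H := by
    have h3 : ((b * 1 : K) : K ⧸ H) = ((1 : K) : K ⧸ H) := hb1
    rw [mul_one, eq_comm, QuotientGroup.eq, inv_one, one_mul] at h3
    exact h3
  have hbg : g⁻¹ * (b * α g) ∈ H := by
    have h3 : ((b * α g : K) : K ⧸ H) = (g : K ⧸ H) := hb2
    rw [eq_comm, QuotientGroup.eq] at h3
    exact h3
  have hs1' : g⁻¹ * s ∈ H := by
    have h3 : ((s * 1 : K) : K ⧸ H) = (g : K ⧸ H) := hs1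
    rw [mul_one, eq_comm, QuotientGroup.eq] at h3
    exact h3
  have hs2' : s * g ∈ H := by
    have h3 : ((s * g : K) : K ⧸ H) = ((1 : K) : K ⧸ H) := hs2
    rw [eq_comm, QuotientGroup.eq, inv_one, one_mul] at h3
    exact h3
  have hconj : ∀ (y : K), y ∈ H → ∀ a, y * a * y⁻¹ ∈ H ↔ a ∈ H := by
    intro y hy a
    constructor
    · intro h
      have h1 : a = y⁻¹ * (y * a * y⁻¹) * y := by group
      rw [h1]
      exact mul_mem (mul_mem (inv_mem hy) h) hy
    · intro h
      exact mul_mem (mul_mem hy h) (inv_mem hy)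
  have hβ : ∀ a, (MulAut.conj (b * k) * τ) a = b * α a * b⁻¹ := by
    intro a
    rw [hα, MulAut.mul_apply, MulAut.mul_apply, MulAut.conj_apply, MulAut.conj_apply]
    group
  have hmem : ∀ a : K, a ∈ H.map (MulAut.conj g).toMonoidHom ↔ g⁻¹ * a * g ∈ H := by
    intro a
    constructor
    · rintro ⟨y, hy, rfl⟩
      have h1 : g⁻¹ * (MulAut.conj g).toMonoidHom y * g = y := by
        show g⁻¹ * (g * y * g⁻¹) * g = y
        group
      rwa [h1]
    · intro h
      exact ⟨_, h, by show g * (g⁻¹ * a * g) * g⁻¹ = a; group⟩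
  refine ⟨b * k, s, H, H.map (MulAut.conj g).toMonoidHom, ?_, ?_, ?_, ?_, ?_⟩
  · intro he
    apply hg
    -- `g` normalises `H = N(U)`, so it normalises `U`
    have h3 : g ∈ Subgroup.normalizer (H : Set K) := by
      rw [Subgroup.mem_normalizer_iff]
      intro a
      constructor
      · intro ha
        rw [he]
        exact ⟨a, ha, rfl⟩
      · intro ha
        rw [he, hmem] at ha
        have h4 : g⁻¹ * (g * a * g⁻¹) * g = a := by group
        rwa [h4] at ha
    rw [hH] at h3 ⊢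
    exact (Sylow.normalizer_normalizer U).le h3
  · intro a
    rw [hmem]
    have h3 : g⁻¹ * (s * a * s⁻¹) * g = (g⁻¹ * s) * a * (g⁻¹ * s)⁻¹ := by group
    rw [h3, hconj _ hs1']
  · intro a
    rw [hmem]
    have h3 : s * a * s⁻¹ = (s * g) * (g⁻¹ * a * g) * (s * g)⁻¹ := by group
    rw [h3, hconj _ hs2']
  · intro a
    rw [hβ, hconj _ hbH, hαH]
  · intro a
    rw [hmem, hmem, hβ]
    have h3 : α a = α g * α (g⁻¹ * a * g) * (α g)⁻¹ := by
      rw [← map_mul, ← map_inv, ← map_mul]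
      congr 1
      group
    have h4 : g⁻¹ * (b * α a * b⁻¹) * g = (g⁻¹ * (b * α g)) * α (g⁻¹ * a * g) * (g⁻¹ * (b * α g))⁻¹ := by
      rw [h3]; group
    rw [h4, hconj _ hbg, hαH]

/-- **Sylow 2-subgroups elementary abelian of order 8.** -/
theorem good_of_eight (S : Sylow 2 K) (hcard : Nat.card ↥(S : Subgroup K) = 8) (hexp : ∀ x ∈ (S : Subgroup K), x * x = 1)
    (hcent : Subgroup.centralizer ((S : Subgroup K) : Set K) ≤ S)
    (h7 : 7 ∣ Nat.card ↥(Subgroup.normalizer ((S : Subgroup K) : Set K))) : Good K := by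
  intro τ _
  left
  obtain ⟨k, hk⟩ := exists_fix_sylow S τ
  have h7p : Fact (Nat.Prime 7) := ⟨by norm_num⟩
  obtain ⟨y, hy⟩ := exists_prime_orderOf_dvd_card' 7 h7
  have hyo : orderOf (y : K) = 7 := by rw [Subgroup.orderOf_coe, hy]
  have hyS : ∀ x, x ∈ (S : Subgroup K) ↔ (y : K) * x * (y : K)⁻¹ ∈ (S : Subgroup K) := fun x =>
    Subgroup.mem_normalizer_iff.1 y.2 x
  have : Fact (Nat.Prime 2) := ⟨Nat.prime_two⟩
  have h2 : 2 ∣ Nat.card ↥(S : Subgroup K) := by rw [hcard]; norm_num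
  obtain ⟨u, hu⟩ := exists_prime_orderOf_dvd_card' 2 h2
  have huo : orderOf (u : K) = 2 := by rw [Subgroup.orderOf_coe, hu]
  have hu1 : (u : K) ≠ 1 := by
    intro h
    rw [h, orderOf_one] at huo
    norm_num at huo
  -- the powers of `y`
  have hyi : ∀ i : ℕ, ∀ x ∈ (S : Subgroup K), (y : K) ^ i * x * ((y : K) ^ i)⁻¹ ∈ (S : Subgroup K) := by
    intro i
    induction i with
    | zero => intro x hx; simpa using hx
    | succ i ih =>
      intro x hx
      have h3 := (hyS _).1 (ih x hx)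
      have h4 : (y : K) * ((y : K) ^ i * x * ((y : K) ^ i)⁻¹) * (y : K)⁻¹ = (y : K) ^ (i + 1) * x * ((y : K) ^ (i + 1))⁻¹ := by
        rw [pow_succ']; group
      rwa [h4] at h3
  -- no fixed points of the nontrivial powers of `y`
  have hnofix : ∀ i : ℕ, ¬ 7 ∣ i → ∀ x ∈ (S : Subgroup K), x ≠ 1 → (y : K) ^ i * x * ((y : K) ^ i)⁻¹ ≠ x := by
    intro i hi x hx hx1 hfix
    -- `y` commutes with `x`
    have hcom : Commute ((y : K) ^ i) x := mul_inv_eq_iff_eq_mul.1 hfix
    have hcy : Commute (y : K) x := by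
      have h3 : Nat.Coprime i 7 := ((Nat.Prime.coprime_iff_not_dvd h7p.out).2 hi).symm
      obtain ⟨m, hm⟩ : ∃ m : ℕ, (y : K) = ((y : K) ^ i) ^ m := by
        have h4 : (y : K) ∈ zpowers ((y : K) ^ i) := by
          have h5 : zpowers ((y : K) ^ i) = zpowers (y : K) := by
            apply Subgroup.eq_of_le_of_card_ge
            · rw [zpowers_le]
              exact pow_mem (mem_zpowers _) i
            · rw [Nat.card_zpowers, Nat.card_zpowers, hyo, Nat.Coprime.orderOf_pow (by rw [hyo]; exact h3.symm), hyo]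
          rw [h5]
          exact mem_zpowers _
        obtain ⟨m, hm⟩ := mem_powers_iff_mem_zpowers.2 h4
        exact ⟨m, hm.symm⟩
      rw [hm]
      exact hcom.pow_left m
    -- the fixed points of `y` on `S` form a subgroup of order congruent to 8 mod 7
    let C : Subgroup ↥(S : Subgroup K) := (Subgroup.centralizer {(y : K)}).subgroupOf (S : Subgroup K)
    have hC1 : Nat.card C ∣ 8 := by rw [← hcard]; exact Subgroup.card_subgroup_dvd_card C
    -- `y` acts on `S ∖ C` without fixed points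
    have hmod : Nat.card ↥(S : Subgroup K) ≡ Nat.card C [MOD 7] := by
      let a : MulAction (↥(zpowers (y : K))) ↥(S : Subgroup K) :=
        { smul := fun g x => ⟨(g : K) * x * (g : K)⁻¹, by
            obtain ⟨j, hj⟩ := mem_powers_iff_mem_zpowers.2 g.2
            have := hyi j x x.2
            have hj' : (y : K) ^ j = (g : K) := hj
            rwa [hj'] at this⟩
          one_smul := fun x => Subtype.ext (by show ((1 : ↥(zpowers (y : K))) : K) * x * (((1 : ↥(zpowers (y : K))) : K))⁻¹ = x; simp)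
          mul_smul := fun g h x => Subtype.ext (by
            show ((g * h : ↥(zpowers (y : K))) : K) * x * ((g * h : ↥(zpowers (y : K))) : K)⁻¹ =
              (g : K) * ((h : K) * x * (h : K)⁻¹) * (g : K)⁻¹
            rw [Subgroup.coe_mul]; group) }
      have hpg : IsPGroup 7 ↥(zpowers (y : K)) := IsPGroup.of_card (n := 1) (by rw [Nat.card_zpowers, hyo, pow_one])
      have h3 := hpg.card_modEq_card_fixedPoints ↥(S : Subgroup K)
      have h4 : Nat.card ↥(MulAction.fixedPoints ↥(zpowers (y : K)) ↥(S : Subgroup K)) = Nat.card C := by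
        apply Nat.card_congr
        refine Equiv.subtypeEquivRight fun x => ?_
        rw [Subgroup.mem_subgroupOf, Subgroup.mem_centralizer_singleton_iff]
        constructor
        · intro h
          have h5 := congrArg Subtype.val (h ⟨(y : K), mem_zpowers _⟩)
          have h6 : (y : K) * x * (y : K)⁻¹ = x := h5
          rw [mul_inv_eq_iff_eq_mul] at h6
          exact h6.symm
        · intro h g
          apply Subtype.ext
          show (g : K) * x * (g : K)⁻¹ = x
          obtain ⟨j, hj⟩ := mem_zpowers_iff.1 g.2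
          have h5 : Commute (y : K) x := h.symm
          rw [← hj, (h5.zpow_left j).eq, mul_inv_cancel_right]
      rw [h4] at h3
      exact h3
    have hC8 : Nat.card C = 8 := by
      rw [hcard] at hmod
      have h3 : Nat.card C ≤ 8 := Nat.le_of_dvd (by norm_num) hC1
      have h4 : Nat.card C ≠ 1 := by
        intro h
        have h5 : C = ⊥ := Subgroup.card_eq_one.1 h
        apply hx1
        have h6 : (⟨x, hx⟩ : ↥(S : Subgroup K)) ∈ C := by
          rw [Subgroup.mem_subgroupOf, Subgroup.mem_centralizer_singleton_iff]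
          exact hcy.symm
        rw [h5, Subgroup.mem_bot] at h6
        exact congrArg Subtype.val h6
      unfold Nat.ModEq at hmod
      have h5 : 0 < Nat.card C := Nat.card_pos
      omega
    have hCtop : C = ⊤ := Subgroup.eq_top_of_card_eq C (by rw [hC8, hcard])
    have hyc : (y : K) ∈ Subgroup.centralizer ((S : Subgroup K) : Set K) := by
      rw [Subgroup.mem_centralizer_iff]
      intro z hz
      have h3 : (⟨z, hz⟩ : ↥(S : Subgroup K)) ∈ C := by rw [hCtop]; trivial
      rw [Subgroup.mem_subgroupOf, Subgroup.mem_centralizer_singleton_iff] at h3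
      exact h3
    have h3 : (y : K) ∈ (S : Subgroup K) := hcent hyc
    have h4 := hexp _ h3
    have h5 : orderOf (y : K) ∣ 2 := orderOf_dvd_of_pow_eq_one (by rw [pow_two]; exact h4)
    rw [hyo] at h5
    norm_num at h5
  -- `⟨y⟩` is transitive on `S ∖ {1}`
  have htrans : ∀ x ∈ (S : Subgroup K), x ≠ 1 → ∃ i : ℕ, (y : K) ^ i * x * ((y : K) ^ i)⁻¹ = u := by
    intro x hx hx1
    classical
    let f : Fin 7 → ↥(S : Subgroup K) := fun i => ⟨(y : K) ^ (i : ℕ) * x * ((y : K) ^ (i : ℕ))⁻¹, hyi i x hx⟩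
    have hf : Function.Injective f := by
      have hle : ∀ i j : Fin 7, (i : ℕ) ≤ j → f i = f j → i = j := by
        intro i j hij h
        by_contra hne
        have hlt : (i : ℕ) < j := lt_of_le_of_ne hij (fun h => hne (Fin.ext h))
        have h3 : (y : K) ^ (i : ℕ) * x * ((y : K) ^ (i : ℕ))⁻¹ = (y : K) ^ (j : ℕ) * x * ((y : K) ^ (j : ℕ))⁻¹ :=
          congrArg Subtype.val h
        have h4 : (y : K) ^ ((j : ℕ) - i) * x * ((y : K) ^ ((j : ℕ) - i))⁻¹ = x := by
          have h5 : (y : K) ^ (j : ℕ) = (y : K) ^ (i : ℕ) * (y : K) ^ ((j : ℕ) - i) := by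
            rw [← pow_add]; congr 1; omega
          rw [h5] at h3
          have h6 : (y : K) ^ (i : ℕ) * x * ((y : K) ^ (i : ℕ))⁻¹ = (y : K) ^ (i : ℕ) * ((y : K) ^ ((j : ℕ) - i) * x *
              ((y : K) ^ ((j : ℕ) - i))⁻¹) * ((y : K) ^ (i : ℕ))⁻¹ := by
            rw [h3]; group
          have h7 := mul_left_cancel (mul_right_cancel h6)
          exact h7.symm
        exact hnofix ((j : ℕ) - i) (fun hd => by
          have := Nat.le_of_dvd (by omega) hd
          omega) x hx hx1 h4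
      intro i j h
      rcases le_total (i : ℕ) j with h3 | h3
      · exact hle i j h3 h
      · exact (hle j i h3 h.symm).symm
    by_contra hcon
    push Not at hcon
    -- `f`, `1`, `u` give 9 elements
    let F : Fin 7 ⊕ Fin 2 → ↥(S : Subgroup K) := Sum.elim f ![1, u]
    have hF : Function.Injective F := by
      have hf1 : ∀ i, f i ≠ 1 := by
        intro i h
        have h3 : (y : K) ^ (i : ℕ) * x * ((y : K) ^ (i : ℕ))⁻¹ = 1 := congrArg Subtype.val h
        apply hx1
        have h4 : x = ((y : K) ^ (i : ℕ))⁻¹ * ((y : K) ^ (i : ℕ) * x * ((y : K) ^ (i : ℕ))⁻¹) * (y : K) ^ (i : ℕ) := by group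
        rw [h4, h3]; group
      have hfu : ∀ i, f i ≠ u := by
        intro i h
        exact hcon i (congrArg Subtype.val h)
      have hu1' : u ≠ 1 := fun h => hu1 (congrArg Subtype.val h)
      rintro (i | i) (j | j) h
      · exact congrArg Sum.inl (hf h)
      · exfalso
        fin_cases j
        · exact hf1 i h
        · exact hfu i h
      · exfalso
        fin_cases i
        · exact hf1 j h.symm
        · exact hfu j h.symm
      · fin_cases i <;> fin_cases j
        · rfl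
        · exact absurd h.symm hu1'
        · exact absurd h hu1'
        · rfl
    have h3 := Nat.card_le_card_of_injective F hF
    rw [hcard, Nat.card_sum, Nat.card_fin, Nat.card_fin] at h3
    omega
  have hτu : (MulAut.conj k * τ) u ∈ (S : Subgroup K) := (hk _).2 u.2
  have hτu1 : (MulAut.conj k * τ) (u : K) ≠ 1 := fun h => hu1 ((map_eq_one_iff _ (MulEquiv.injective _)).1 h)
  obtain ⟨i, hi⟩ := htrans _ hτu hτu1
  refine ⟨(y : K) ^ i * k, u, huo, ?_⟩
  rw [map_mul, mul_assoc, MulAut.mul_apply, MulAut.conj_apply]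
  exact hi

end Cfsg.Agent.H414.GoodBN
end

-- part: H414/GoodKnown
section
/-!
# All known nonabelian simple groups are `Good` (helper414)
-/

set_option autoImplicit false

namespace Cfsg.Agent.H414.GoodKnown

open Subgroup Cfsg Cfsg.Agent.H414.Good Cfsg.Agent.H414.GoodBN Cfsg.Agent.Omega.Lie.CenTwo
  Cfsg.Agent.Schreier.BNSch Cfsg.Agent.Schreier.BNUse

/-- **`NoCenMove` gives `FixInv`.** -/
theorem good_of_noCenMove {K : Type*} [Group K] [Finite K] (h2 : 2 ∣ Nat.card K) (h : NoCenMove K) : Good K := by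
  intro τ hτ
  left
  have : Fact (Nat.Prime 2) := ⟨Nat.prime_two⟩
  obtain ⟨S⟩ : Nonempty (Sylow 2 K) := inferInstance
  obtain ⟨k, hk⟩ := exists_fix_sylow S τ
  set α : MulAut K := MulAut.conj k * τ with hα
  obtain ⟨a, m, hm, hkm⟩ := Nat.exists_eq_two_pow_mul_odd (orderOf_pos α).ne'
  -- the exponent
  obtain ⟨e, he1, he2⟩ := Nat.chineseRemainder (show Nat.Coprime (2 ^ a) (orderOf τ) from
    Nat.Coprime.pow_left a (Nat.coprime_two_left.2 hτ)) 0 1
  have hτe : τ ^ e = τ := by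
    have h3 : τ ^ e = τ ^ 1 := pow_eq_pow_iff_modEq.2 he2
    rw [h3, pow_one]
  obtain ⟨y, hy⟩ := pow_conj_mul τ k e
  rw [hτe, ← hα] at hy
  have hodd : Odd (orderOf (α ^ e)) := by
    have h3 : (2 ^ a) ∣ e := (Nat.modEq_zero_iff_dvd).1 he1
    refine Odd.of_dvd_nat hm ?_
    obtain ⟨c, hc⟩ := h3
    apply orderOf_dvd_of_pow_eq_one
    rw [← pow_mul, hc, show 2 ^ a * c * m = (2 ^ a * m) * c by ring, ← hkm, pow_mul, pow_orderOf_eq_one, one_pow]
  have hpow : ∀ n : ℕ, ∀ x ∈ S, (α ^ n) x ∈ S := by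
    intro n
    induction n with
    | zero => intro x hx; exact hx
    | succ n ih =>
      intro x hx
      rw [pow_succ, MulAut.mul_apply]
      exact ih _ ((hk x).2 hx)
  -- an involution of `Z(S)`
  have hS : Nat.card ↥(S : Subgroup K) ≠ 1 := by
    intro h3
    have h4 : 2 ∣ Nat.card ↥(S : Subgroup K) := S.dvd_card_of_dvd_card h2
    rw [h3] at h4
    omega
  have hnt : Nontrivial ↥(S : Subgroup K) := by
    by_contra h3
    rw [not_nontrivial_iff_subsingleton] at h3
    exact hS Nat.card_unique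
  have hz : Nontrivial (Subgroup.center ↥(S : Subgroup K)) := S.isPGroup'.center_nontrivial
  have hz2 : 2 ∣ Nat.card (Subgroup.center ↥(S : Subgroup K)) := by
    obtain ⟨n, hn⟩ := (S.isPGroup'.to_subgroup (Subgroup.center ↥(S : Subgroup K))).exists_card_eq
    rw [hn]
    apply dvd_pow_self
    rintro rfl
    rw [pow_zero] at hn
    have := Finite.one_lt_card (α := Subgroup.center ↥(S : Subgroup K))
    omega
  obtain ⟨u, hu⟩ := exists_prime_orderOf_dvd_card' 2 hz2
  have huo : orderOf (((u : ↥(S : Subgroup K)) : K)) = 2 := by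
    rw [Subgroup.orderOf_coe, Subgroup.orderOf_coe, hu]
  refine ⟨y, (u : ↥(S : Subgroup K)), huo, ?_⟩
  rw [← hy]
  refine h S (α ^ e) hodd (hpow e) _ (u : ↥(S : Subgroup K)).2 ?_ ?_
  · intro x hx
    have h3 := Subgroup.mem_center_iff.1 u.2 ⟨x, hx⟩
    exact congrArg Subtype.val h3
  · have h3 := pow_orderOf_eq_one (((u : ↥(S : Subgroup K)) : K))
    rw [huo, pow_two] at h3
    exact h3

/-- **(B, N)-pairs of rank at most two**, `U` not assumed to be a Sylow subgroup. -/
theorem good_of_bn' {K : Type*} [Group K] [Finite K] (P : Cfsg.BNPair K) {p : ℕ} [hp : Fact p.Prime]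
    (U : Subgroup K) (hUp : IsPGroup p U) (hUB : U ≤ P.B) (hBU : ∀ b ∈ P.B, ∀ u ∈ U, b * u * b⁻¹ ∈ U)
    (hUN : ∀ b ∈ P.B, ∃ u ∈ U, u⁻¹ * b ∈ P.N)
    (m : ℕ) (hm : ¬ p ∣ m) (hH : ∀ h ∈ P.B, h ∈ P.N → h ^ m = 1)
    (hloc : ∀ s ∈ P.S, ∃ V : Subgroup K, Node P U s V) (h2 : Nat.card P.S ≤ 2) (hne : P.S.Nonempty) : Good K := by
  have hB : Subgroup.normalizer (U : Set K) = P.B := by
    refine normalizer_eq P _ hUB hBU fun s hs => ?_
    obtain ⟨V, hV⟩ := hloc s hs
    obtain ⟨u, hu, huV⟩ := hV.ne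
    exact ⟨u, hu, fun h => huV (hV.stab u hu h)⟩
  have hcop : ¬ p ∣ U.relIndex (Subgroup.normalizer (U : Set K)) := by
    rw [hB]
    intro h
    have hn : (U.subgroupOf P.B).Normal := by
      constructor
      intro u hu b
      rw [Subgroup.mem_subgroupOf] at hu ⊢
      exact hBU b b.2 u hu
    have h1 : p ∣ Nat.card (P.B ⧸ U.subgroupOf P.B) := h
    obtain ⟨x, hx⟩ := exists_prime_orderOf_dvd_card' p h1
    induction x using QuotientGroup.induction_on with
    | H b =>
      obtain ⟨u, hu, hun⟩ := hUN b b.2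
      have h2 : u⁻¹ * (b : K) ∈ P.B := mul_mem (inv_mem (hUB hu)) b.2
      have h3 : (QuotientGroup.mk b : P.B ⧸ U.subgroupOf P.B) = QuotientGroup.mk (⟨u⁻¹ * b, h2⟩ : P.B) := by
        rw [QuotientGroup.eq, Subgroup.mem_subgroupOf]
        show (b : K)⁻¹ * (u⁻¹ * b) ∈ U
        have h4 := hBU (b : K)⁻¹ (inv_mem b.2) _ (inv_mem hu)
        rw [inv_inv] at h4
        rwa [← mul_assoc]
      have h4 : (QuotientGroup.mk b : P.B ⧸ U.subgroupOf P.B) ^ m = 1 := by
        rw [h3, ← QuotientGroup.mk_pow]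
        have h5 : (⟨u⁻¹ * b, h2⟩ : P.B) ^ m = 1 := by
          apply Subtype.ext
          exact hH _ h2 hun
        rw [h5]
        rfl
      exact hm (hx ▸ orderOf_dvd_of_pow_eq_one h4)
  obtain ⟨S, rfl⟩ := exists_sylow U hUp hcop
  exact good_of_bn P S hB h2 hne

section FFour

open Cfsg.Lie
open Cfsg.Agent.ChevalleyStructure.TwF4.Rel
open Cfsg.Agent.ChevalleyStructure.TwF4.Groups Cfsg.Agent.ChevalleyStructure.TwF4.RankOne
open Cfsg.Agent.ChevalleyStructure.TwF4.Twisted Cfsg.Agent.ChevalleyStructure.TwF4.TwistedFix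
open Cfsg.Agent.ChevalleyStructure.TwF4.BN
open Cfsg.Agent.ChevalleyStructure.TwF4.Torus (T chi T_conj_X T_inr)
open Cfsg.Agent.ChevalleyStructure.TwF4.TwGen (tc chi_tc_24 chi_tc_25 chi_tc_33 chi_tc_27 chi28 chi30 pow_all)
open Cfsg.Agent.ChevalleyStructure.TwF4.TorusFix (mem_iff pow_unit T_rt rt)
open Cfsg.Agent.Schreier.TwFFour Cfsg.Agent.Schreier.Basic Cfsg.Agent.Schreier.Tools

theorem good_twistedF4 {K : Type*} [Field K] [Fintype K] {m : ℕ} (hK : Fintype.card K = 2 ^ (2 * m + 1)) :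
    Good ↥(twistedF4 K (2 ^ m)) := by
  have : CharP K 2 := charP_two hK
  have : Fact (Nat.Prime 2) := ⟨Nat.prime_two⟩
  obtain ⟨φ, hφ⟩ := exists_rln hK
  obtain ⟨P, hPB, hPN, hPS⟩ := exists_bnPair hφ
  have hB : P.B = B0 K (2 ^ m) := hPB
  have hdec := dec hK hφ
  have hUp := isPGroup_U0 hK
  refine good_of_bn' P (U0 K (2 ^ m)) hUp ?_ ?_ ?_ (2 ^ (2 * m + 1) - 1) ?_ ?_ ?_ ?_ ?_
  · rw [hB]; exact U0_le_B0
  · intro b hb u hu
    rw [hB] at hb
    exact conj_U0 hb hu
  · intro b hb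
    rw [hB] at hb
    obtain ⟨s, t, u, hu, hbu⟩ := hdec.1 b hb
    refine ⟨u, hu, ?_⟩
    rw [hPN, Subgroup.mem_subgroupOf, Subgroup.coe_mul, Subgroup.coe_inv, hbu, inv_mul_cancel_left]
    exact Cfsg.Agent.ChevalleyStructure.TwF4.NStruct.T_mem_N _
  · have h1 : 2 ∣ 2 ^ (2 * m + 1) := dvd_pow_self 2 (by omega)
    have h2 : 0 < 2 ^ (2 * m + 1) := by positivity
    omega
  · intro h hh hN
    rw [hPB, Subgroup.mem_subgroupOf] at hh
    rw [hPN, Subgroup.mem_subgroupOf] at hN
    have h1 := borel_inf_N ⟨hh, hN⟩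
    obtain ⟨s, t, hst⟩ := (mem_iff hK (h : GL chevF4.Idx K)).1 ⟨h1, h.2⟩
    apply Subtype.ext
    rw [Subgroup.coe_pow, hst, ← map_pow]
    have h2 : tc (2 ^ m) s t ^ (2 ^ (2 * m + 1) - 1) = 1 := by
      have h3 : ∀ x : Kˣ, x ^ (2 ^ (2 * m + 1) - 1) = 1 := by
        intro x
        have h4 := pow_card_eq_one' (x := x)
        rwa [Nat.card_units, Nat.card_eq_fintype_card, hK] at h4
      funext l
      rw [Pi.pow_apply, h3]; rfl
    rw [h2, map_one]; rfl
  · intro s hs
    rw [hPS] at hs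
    obtain ⟨i, rfl⟩ := hs
    have hi : i = 0 ∨ i = 1 := by
      revert i; decide
    rcases hi with rfl | rfl
    · exact ⟨V1 K (2 ^ m), node1 hφ hB⟩
    · exact ⟨V8 K (2 ^ m), node2 hφ hB⟩
  · rw [hPS]
    have : Nat.card (Set.range (twistedData hφ).nG) ≤ Nat.card (Fin 2) :=
      Nat.card_le_card_of_surjective (Set.rangeFactorization _) Set.rangeFactorization_surjective
    rw [Nat.card_fin] at this
    exact this
  · rw [hPS]
    exact Set.range_nonempty _

end FFour

theorem good_of_twoF4 {K : Type*} [Group K] (h : Lie.Iso2F4 K) : Good K := by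
  obtain ⟨F, _, _, m, -, hF, ⟨e⟩⟩ := h
  exact Good.congr e (good_twistedF4 hF)

theorem good_of_suzuki {K : Type*} [Group K] (h : Lie.IsoSuzuki K) : Good K := by
  obtain ⟨F, _, _, m, hm, hF, ⟨e⟩⟩ := h
  have : Fact (Nat.Prime 2) := ⟨Nat.prime_two⟩
  obtain ⟨-, S, -, hidx, h2, -⟩ := Cfsg.Agent.S1163.result hm hF
  refine Good.congr e (good_of_two_transitive S h2 ?_)
  intro htop
  rw [htop, Subgroup.index_top] at hidx
  have : 0 < (2 ^ (2 * m + 1)) ^ 2 := by positivity
  omega

theorem good_of_ree {K : Type*} [Group K] (h : Lie.IsoRee K) : Good K := by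
  obtain ⟨F, _, _, m, hm, hF, ⟨e⟩⟩ := h
  have : Fact (Nat.Prime 2) := ⟨Nat.prime_two⟩
  obtain ⟨a, haH, ha1, ha2⟩ := Cfsg.Agent.S1157.exists_involution hF
  obtain ⟨-, hS⟩ := Cfsg.Agent.S1152.result hF a haH ha1 ha2
  have T : Sylow 2 ↥(Cfsg.Lie.twistedG2 F (3 ^ m)) := default
  obtain ⟨h1, h3⟩ := Cfsg.Agent.S1157.result hm hF T
  refine Good.congr e (good_of_eight T (hS T).1 (hS T).2 h1.le ?_)
  rw [h3]
  norm_num

/-- **All known nonabelian simple groups are `Good`.** -/
theorem good_known {K : Type*} [Group K] [Finite K] [IsSimpleGroup K] (hK : IsKnownSimple' K)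
    (hc : ∃ a b : K, a * b ≠ b * a) : Good K := by
  have hcyc : ¬ IsPrimeCyclic K := by
    intro h
    have : Fact (Nat.Prime (Nat.card K)) := ⟨h⟩
    obtain ⟨a, b, hab⟩ := hc
    have := isCyclic_of_prime_card (rfl : Nat.card K = Nat.card K)
    exact hab (IsCyclic.commGroup.mul_comm a b)
  have h2 : 2 ∣ Nat.card K := by
    by_contra h2
    have hodd : Odd (Nat.card K) := Nat.not_even_iff_odd.1 fun h => h2 h.two_dvd
    have hs := Cfsg.Agent.S0205.result hodd
    obtain ⟨a, b, hab⟩ := hc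
    exact hab (IsSimpleGroup.comm_iff_isSolvable.2 hs a b)
  rcases Cfsg.Agent.Omega.KFacts.zs_known hK hcyc with h | h | h
  · rcases h with h | h | h | h | h | h | h | h | ⟨-, h⟩ | ⟨-, h⟩ | ⟨h, -⟩
    · exact GoodRgd.good_of_hasFilt Nat.prime_two hc (Cfsg.Agent.KFacts.RgdLieCharP.hasFilt_of_lie (Or.inl h))
    · exact GoodRgd.good_of_hasFilt Nat.prime_two hc (Cfsg.Agent.KFacts.RgdLieCharP.hasFilt_of_lie
        (Or.inr (Or.inl h)))
    · exact GoodRgd.good_of_hasFilt Nat.prime_two hc (Cfsg.Agent.KFacts.RgdLieCharP.hasFilt_of_lie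
        (Or.inr (Or.inr (Or.inl h))))
    · exact GoodRgd.good_of_hasFilt Nat.prime_two hc (Cfsg.Agent.KFacts.RgdLieCharP.hasFilt_of_lie
        (Or.inr (Or.inr (Or.inr (Or.inl h)))))
    · exact GoodRgd.good_of_hasFilt Nat.prime_two hc (Cfsg.Agent.KFacts.RgdLieCharP.hasFilt_of_lie
        (Or.inr (Or.inr (Or.inr (Or.inr (Or.inl h))))))
    · exact GoodRgd.good_of_hasFilt Nat.prime_two hc (Cfsg.Agent.KFacts.RgdLieCharP.hasFilt_of_lie
        (Or.inr (Or.inr (Or.inr (Or.inr (Or.inr (Or.inl h)))))))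
    · exact GoodRgd.good_of_hasFilt Nat.prime_two hc (Cfsg.Agent.KFacts.RgdLieCharP.hasFilt_of_lie
        (Or.inr (Or.inr (Or.inr (Or.inr (Or.inr (Or.inr (Or.inl h))))))))
    · exact GoodRgd.good_of_hasFilt Nat.prime_two hc (Cfsg.Agent.KFacts.RgdLieCharP.hasFilt_of_lie
        (Or.inr (Or.inr (Or.inr (Or.inr (Or.inr (Or.inr (Or.inr h))))))))
    · exact good_of_suzuki h
    · exact good_of_twoF4 h
    · norm_num at h
  · exact good_of_noCenMove h2 h
  · rcases h with ⟨F, _, _, -, h11, ⟨e⟩⟩ | ⟨⟨e⟩⟩ | h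
    · obtain ⟨p, hpF⟩ := CharP.exists F
      have hp : p.Prime := CharP.char_is_prime F p
      exact GoodRgd.good_of_hasFilt hp hc (Cfsg.Agent.KFacts.RgdLieCharP.hasFilt_of_lie
        (Or.inl ⟨F, _, _, hpF, 2, le_rfl, fun _ => by omega, ⟨e⟩⟩))
    · have hfin : Finite Spor.J1 := Finite.of_equiv K e.toEquiv
      refine Good.congr e (good_of_inner ?_ fun τ _ => Cfsg.Agent.OddHalf.D4.Spor.J1Out.inn τ)
      rwa [← Nat.card_congr e.toEquiv]
    · exact good_of_ree h

end Cfsg.Agent.H414.GoodKnown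
end

-- part: H414/Vasiliev
section
/-!
# Vasil'ev's theorem on groups with an odd prime not adjacent to 2 in the prime graph (helper414)

For a finite insoluble group `G` with an odd prime divisor `p` of its order not adjacent to 2, `K` the solvable radical:

* `exists_socle` : `G / K` has a nonabelian simple normal subgroup `S` with trivial centralizer (the general form, with
  the list of additional properties): `main`;
* `no_three` : `M ⊲ G`, `G / M` solvable, distinct primes `q, r ∣ |G : M|`, `p ∣ |M|`: two of them are adjacent;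
* `coclique` : at most one prime of a coclique `ρ` of at least three primes divides `|K| |G/K : S|`;
* `sylow_equiv` : `p ∤ |K|`, `p ∤ |G/K : S|`: Sylow `p`-subgroups of `G` and `S` are isomorphic.
-/

set_option autoImplicit false

namespace Cfsg.Agent.H414.Vasiliev

open Subgroup Cfsg.Agent.H414.Adj Cfsg.Agent.H414.Good Cfsg.Agent.H414.Comp Cfsg.Agent.H414.Rad

variable {G : Type*} [Group G] [Finite G]

omit [Finite G] in
/-- `G / K` has no solvable normal subgroups. -/
theorem quot_radical (K : Subgroup G) [K.Normal] (hK : Group.IsSolvable ↥K)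
    (hKmax : ∀ M : Subgroup G, M.Normal → Group.IsSolvable ↥M → M ≤ K) (M : Subgroup (G ⧸ K)) (hM : M.Normal)
    (hs : Group.IsSolvable ↥M) : M = ⊥ := by
  set N : Subgroup G := M.comap (QuotientGroup.mk' K) with hN
  have hKN : K ≤ N := by
    intro k hk
    rw [hN, Subgroup.mem_comap]
    have h1 : QuotientGroup.mk' K k = 1 := (QuotientGroup.eq_one_iff k).2 hk
    rw [h1]
    exact one_mem M
  have hNs : Group.IsSolvable ↥N := by
    let g : ↥N →* ↥M := ((QuotientGroup.mk' K).domRestrict N).codRestrict M fun y => y.2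
    refine Group.isSolvable_of_ker_le_range (Subgroup.inclusion hKN) g ?_
    intro y hy
    have h1 := congrArg Subtype.val ((MonoidHom.mem_ker).1 hy)
    have h2 : (y : G) ∈ K := (QuotientGroup.eq_one_iff (y : G)).1 h1
    exact ⟨⟨y, h2⟩, rfl⟩
  have h1 := hKmax N inferInstance hNs
  rw [eq_bot_iff]
  intro m hm
  obtain ⟨g, rfl⟩ := QuotientGroup.mk'_surjective K m
  have h2 : g ∈ K := h1 hm
  rw [Subgroup.mem_bot]
  exact (QuotientGroup.eq_one_iff g).2 h2

omit [Finite G] in
theorem nontrivial_quot (hG : ¬ Group.IsSolvable G) (K : Subgroup G) [K.Normal] (hK : Group.IsSolvable ↥K) :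
    Nontrivial (G ⧸ K) := by
  rw [QuotientGroup.nontrivial_iff]
  rintro rfl
  apply hG
  exact Group.isSolvable_of_surjective (f := (Subgroup.topEquiv (G := G)).toMonoidHom) Subgroup.topEquiv.surjective

/-- Components are `Good`, by the classification. -/
theorem good_comp {X : Type*} [Group X] [Finite X] (S : Subgroup X) (hS : IsComp S) : Good ↥S := by
  have := hS.simple
  exact GoodKnown.good_known Cfsg.Agent.S0000.result hS.noncomm

/-- **Existence of the socle.** -/
theorem exists_socle (hG : ¬ Group.IsSolvable G) {p : ℕ} (hp : p.Prime) (hp2 : p ≠ 2) (hpG : p ∣ Nat.card G)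
    (h : ¬ ∃ x : G, orderOf x = 2 * p) (K : Subgroup G) [K.Normal] (hK : Group.IsSolvable ↥K)
    (hKmax : ∀ M : Subgroup G, M.Normal → Group.IsSolvable ↥M → M ≤ K) :
    ∃ S : Subgroup (G ⧸ K), IsComp S ∧ S.Normal ∧ centralizer (S : Set (G ⧸ K)) = ⊥ ∧
      (AltL2 ↥S ∨ (¬ p ∣ Nat.card ↥K ∧ ¬ p ∣ S.index)) := by
  have hnt := nontrivial_quot hG K hK
  by_cases hpK : p ∣ Nat.card ↥K
  · obtain ⟨S, h1, h2, h3, h4⟩ := structure_of_dvd_rad K (quot_radical K hK hKmax) hp hp2 hpK h
    exact ⟨S, h1, h2, h3, Or.inl h4⟩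
  · have hpX : p ∣ Nat.card (G ⧸ K) := by
      have h1 : Nat.card G = Nat.card (G ⧸ K) * Nat.card ↥K := Subgroup.card_eq_card_quotient_mul_card_subgroup K
      rw [h1] at hpG
      exact (hp.dvd_mul.1 hpG).resolve_right hpK
    have h2 : ¬ ∃ x : G ⧸ K, orderOf x = 2 * p := fun h2 => h (exists_order_quot K
      (Nat.mul_ne_zero two_ne_zero hp.ne_zero) h2)
    obtain ⟨S, h3, h4, -, h5, h6⟩ := structure_of_dvd (quot_radical K hK hKmax) good_comp hp hp2 hpX h2
    exact ⟨S, h3, h4, h6, Or.inr ⟨hpK, h5⟩⟩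

/-! ### cocliques -/

/-- `G / M` solvable, three primes. -/
theorem no_three (M : Subgroup G) [M.Normal] (hs : Group.IsSolvable (G ⧸ M)) {p q r : ℕ} (hp : p.Prime) (hq : q.Prime)
    (hr : r.Prime) (hpq : p ≠ q) (hpr : p ≠ r) (hqr : q ≠ r) (hpM : p ∣ Nat.card ↥M) (hqM : q ∣ M.index)
    (hrM : r ∣ M.index) :
    (∃ x : G, orderOf x = p * q) ∨ (∃ x : G, orderOf x = p * r) ∨ (∃ x : G, orderOf x = q * r) := by
  classical
  have hts : Group.IsSolvable ↥(⊤ : Subgroup (G ⧸ M)) :=
    Group.isSolvable_of_isSolvable_injective (Subgroup.subtype_injective _)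
  obtain ⟨V, hV, -, hV1⟩ := Cfsg.Agent.H395.Coclique.exists_sep hq hr hqr (G := G ⧸ M) _ ⊤ inferInstance hts rfl
    (Or.inl (by rw [Subgroup.card_top, ← Subgroup.index_eq_card]; exact hqM))
  set W : Subgroup G := V.comap (QuotientGroup.mk' M) with hW
  have hWn : W.Normal := inferInstance
  have hMW : M ≤ W := by
    intro k hk
    rw [hW, Subgroup.mem_comap]
    have h1 : QuotientGroup.mk' M k = 1 := (QuotientGroup.eq_one_iff k).2 hk
    rw [h1]
    exact one_mem V
  have hrel : M.relIndex W = Nat.card ↥V := by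
    have h1 : W.map (QuotientGroup.mk' M) = V :=
      Subgroup.map_comap_eq_self_of_surjective (QuotientGroup.mk'_surjective M) V
    have h2 := Subgroup.relIndex_ker W (QuotientGroup.mk' M)
    rw [QuotientGroup.ker_mk', h1] at h2
    exact h2
  have hidx : M.relIndex W * W.index = M.index := Subgroup.relIndex_mul_index hMW
  rcases hV1 with ⟨h1, h2⟩ | ⟨h1, h2⟩
  · have h3 : r ∣ W.index := by
      rw [← hidx, hrel] at hrM
      exact (hr.dvd_mul.1 hrM).resolve_left h2
    exact Cfsg.Agent.H395.Coclique.main' M W hMW p q r hp hq hr hpq hpr hqr hpM (by rw [hrel]; exact h1) h3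
  · have h3 : q ∣ W.index := by
      rw [← hidx, hrel] at hqM
      exact (hq.dvd_mul.1 hqM).resolve_left h2
    rcases Cfsg.Agent.H395.Coclique.main' M W hMW p r q hp hr hq hpr hpq hqr.symm hpM (by rw [hrel]; exact h1) h3
      with h4 | h4 | ⟨x, h4⟩
    · exact Or.inr (Or.inl h4)
    · exact Or.inl h4
    · exact Or.inr (Or.inr ⟨x, by rw [h4, mul_comm]⟩)

/-- Cocliques of the prime graph. -/
def Coc (G : Type*) [Group G] (ρ : Finset ℕ) : Prop :=
  (∀ r ∈ ρ, r.Prime ∧ r ∣ Nat.card G) ∧ (∀ r ∈ ρ, ∀ s ∈ ρ, r ≠ s → ¬ ∃ x : G, orderOf x = r * s)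

/-- `K ≤ M` normal, `K` and `G / M` solvable: a coclique of three primes has at most one prime divisor of
`|K| |G : M|`. -/
theorem three (K M : Subgroup G) [K.Normal] [M.Normal] (hKM : K ≤ M) (hK : Group.IsSolvable ↥K)
    (hs : Group.IsSolvable (G ⧸ M)) {p q r : ℕ} (hpq : p ≠ q) (hpr : p ≠ r) (hqr : q ≠ r)
    (hρ : Coc G {p, q, r}) (h1 : p ∣ Nat.card ↥K ∨ p ∣ M.index) (h2 : q ∣ Nat.card ↥K ∨ q ∣ M.index) : False := by
  classical
  obtain ⟨hp, -⟩ := hρ.1 p (by simp)
  obtain ⟨hq, -⟩ := hρ.1 q (by simp)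
  obtain ⟨hr, hrG⟩ := hρ.1 r (by simp)
  have a1 := hρ.2 p (by simp) q (by simp) hpq
  have a2 := hρ.2 p (by simp) r (by simp) hpr
  have a3 := hρ.2 q (by simp) r (by simp) hqr
  have a1' : ¬ ∃ x : G, orderOf x = q * p := by rwa [mul_comm q p]
  have a2' : ¬ ∃ x : G, orderOf x = r * p := by rwa [mul_comm r p]
  have a3' : ¬ ∃ x : G, orderOf x = r * q := by rwa [mul_comm r q]
  have hcard : ({p, q, r} : Finset ℕ).card = 3 := by
    rw [Finset.card_insert_of_notMem, Finset.card_insert_of_notMem, Finset.card_singleton]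
    · simpa using hqr
    · simp only [Finset.mem_insert, Finset.mem_singleton, not_or]
      exact ⟨hpq, hpr⟩
  obtain ⟨b1, -⟩ := Cfsg.Agent.S3633.result {p, q, r} hcard.ge hρ K hK
  have hKMd : Nat.card ↥K ∣ Nat.card ↥M := Subgroup.card_dvd_of_le hKM
  -- `r` divides one of the three factors
  have hfac : Nat.card G = Nat.card ↥K * K.relIndex M * M.index := by
    rw [mul_assoc, Subgroup.relIndex_mul_index hKM, mul_comm, ← Subgroup.index_mul_card K]
  have hr3 : r ∣ Nat.card ↥K ∨ r ∣ K.relIndex M ∨ r ∣ M.index := by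
    rw [hfac] at hrG
    rcases hr.dvd_mul.1 hrG with h | h
    · rcases hr.dvd_mul.1 h with h | h
      · exact Or.inl h
      · exact Or.inr (Or.inl h)
    · exact Or.inr (Or.inr h)
  -- one prime divides `|K|`, another `|G : M|`
  have mixed : ∀ a b c : ℕ, a.Prime → b.Prime → c.Prime → a ≠ b → a ≠ c → b ≠ c →
      (¬ ∃ x : G, orderOf x = a * b) → (¬ ∃ x : G, orderOf x = a * c) → (¬ ∃ x : G, orderOf x = b * c) →
      (¬ ∃ x : G, orderOf x = c * b) → (a ∣ Nat.card ↥K → c ∣ Nat.card ↥K → a = c) → a ∣ Nat.card ↥K → b ∣ M.index →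
      (c ∣ Nat.card ↥K ∨ c ∣ K.relIndex M ∨ c ∣ M.index) → False := by
    intro a b c ha hb hc hab hac hbc n1 n2 n3 n3' hu haK hbM hc3
    rcases hc3 with h | h | h
    · exact hac (hu haK h)
    · rcases Cfsg.Agent.H395.Coclique.main' K M hKM a c b ha hc hb hac hab hbc.symm haK h hbM with h | h | h
      · exact n2 h
      · exact n1 h
      · exact n3' h
    · rcases no_three M hs ha hb hc hab hac hbc (haK.trans hKMd) hbM h with h | h | h
      · exact n1 h
      · exact n2 h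
      · exact n3 h
  rcases h1 with h1 | h1 <;> rcases h2 with h2 | h2
  · exact hpq (b1 p (by simp) q (by simp) h1 h2)
  · exact mixed p q r hp hq hr hpq hpr hqr a1 a2 a3 a3' (b1 p (by simp) r (by simp)) h1 h2 hr3
  · exact mixed q p r hq hp hr hpq.symm hqr hpr a1' a3 a2 a2' (b1 q (by simp) r (by simp)) h2 h1 hr3
  · -- both divide `|G : M|`
    have hr2 : r ∣ Nat.card ↥M ∨ r ∣ M.index := by
      rcases hr3 with h | h | h
      · exact Or.inl (h.trans hKMd)
      · left
        refine h.trans ?_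
        have h5 := Subgroup.relIndex_mul_relIndex ⊥ K M bot_le hKM
        rw [Subgroup.relIndex_bot_left, Subgroup.relIndex_bot_left] at h5
        exact ⟨_, by rw [← h5, mul_comm]⟩
      · exact Or.inr h
    rcases hr2 with h | h
    · rcases no_three M hs hr hp hq hpr.symm hqr.symm hpq h h1 h2 with h | h | h
      · exact a2' h
      · exact a3' h
      · exact a1 h
    · have hρ' : Coc (G ⧸ M) {p, q, r} := by
        constructor
        · intro t ht
          refine ⟨(hρ.1 t ht).1, ?_⟩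
          rw [← Subgroup.index_eq_card]
          simp only [Finset.mem_insert, Finset.mem_singleton] at ht
          rcases ht with rfl | rfl | rfl
          · exact h1
          · exact h2
          · exact h
        · intro t ht u hu htu hx
          exact hρ.2 t ht u hu htu (exists_order_quot M (Nat.mul_ne_zero (hρ.1 t ht).1.ne_zero
            (hρ.1 u hu).1.ne_zero) hx)
      have hbs : Group.IsSolvable ↥(⊥ : Subgroup (G ⧸ M)) := inferInstance
      exact (Cfsg.Agent.S3633.result {p, q, r} hcard.ge hρ' ⊥ hbs).2 hs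

/-- `X / S` is solvable, `S` nonabelian simple with trivial centralizer (Schreier conjecture). -/
theorem solvable_quot {X : Type*} [Group X] [Finite X] (S : Subgroup X) [S.Normal] (hS : IsComp S)
    (hc : centralizer (S : Set X) = ⊥) : Group.IsSolvable (X ⧸ S) := by
  have := hS.simple
  have hout : Group.IsSolvable (Cfsg.Out ↥S) := Cfsg.Agent.S5758.result
  let ψ : X →* Cfsg.Out ↥S := (QuotientGroup.mk' _).comp (MulAut.conjNormal (H := S))
  have hker : ψ.ker ≤ S := by
    intro x hx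
    have h1 : QuotientGroup.mk' _ (MulAut.conjNormal (H := S) x) = (1 : Cfsg.Out ↥S) := hx
    have h2 := (QuotientGroup.eq_one_iff (MulAut.conjNormal (H := S) x)).1 h1
    obtain ⟨s, hs⟩ := h2
    have h3 : (s : X)⁻¹ * x ∈ centralizer (S : Set X) := by
      rw [Subgroup.mem_centralizer_iff]
      intro t ht
      have h4 := congrArg (fun f : MulAut ↥S => ((f ⟨t, ht⟩ : ↥S) : X)) hs
      have h5 : (s : X) * t * (s : X)⁻¹ = x * t * x⁻¹ := h4
      have h6 : t = (s : X)⁻¹ * (x * t * x⁻¹) * s := by rw [← h5]; group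
      calc t * ((s : X)⁻¹ * x) = ((s : X)⁻¹ * (x * t * x⁻¹) * s) * ((s : X)⁻¹ * x) := by rw [← h6]
        _ = (s : X)⁻¹ * x * t := by group
    rw [hc, Subgroup.mem_bot, inv_mul_eq_one] at h3
    rw [← h3]
    exact s.2
  have h1 : Group.IsSolvable (X ⧸ ψ.ker) :=
    Group.isSolvable_of_isSolvable_injective (f := QuotientGroup.kerLift ψ) (QuotientGroup.kerLift_injective ψ)
  refine Group.isSolvable_of_surjective (f := QuotientGroup.map ψ.ker S (MonoidHom.id X) hker) ?_
  intro y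
  obtain ⟨x, rfl⟩ := QuotientGroup.mk'_surjective S y
  exact ⟨QuotientGroup.mk' _ x, rfl⟩

/-- **Cocliques**: at most one prime of a coclique of at least three primes divides `|K| |G/K : S|`. -/
theorem coclique (K : Subgroup G) [K.Normal] (hK : Group.IsSolvable ↥K) (S : Subgroup (G ⧸ K)) [S.Normal]
    (hS : IsComp S) (hc : centralizer (S : Set (G ⧸ K)) = ⊥) {ρ : Finset ℕ} (hρ : Coc G ρ) (h3 : 3 ≤ ρ.card)
    {p q : ℕ} (hp : p ∈ ρ) (hq : q ∈ ρ) (hpd : p ∣ Nat.card ↥K * S.index) (hqd : q ∣ Nat.card ↥K * S.index) :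
    p = q := by
  classical
  by_contra hpq
  obtain ⟨r, hr, hr'⟩ : ∃ r ∈ ρ, r ∉ ({p, q} : Finset ℕ) := by
    by_contra hcon
    push Not at hcon
    have h1 : ρ ⊆ {p, q} := hcon
    have h2 := Finset.card_le_card h1
    have h4 : ({p, q} : Finset ℕ).card ≤ 2 := Finset.card_le_two
    omega
  simp only [Finset.mem_insert, Finset.mem_singleton, not_or] at hr'
  set M : Subgroup G := S.comap (QuotientGroup.mk' K) with hM
  have hMn : M.Normal := inferInstance
  have hKM : K ≤ M := by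
    intro k hk
    rw [hM, Subgroup.mem_comap]
    have h1 : QuotientGroup.mk' K k = 1 := (QuotientGroup.eq_one_iff k).2 hk
    rw [h1]
    exact one_mem S
  have hidx : M.index = S.index := Subgroup.index_comap_of_surjective S (QuotientGroup.mk'_surjective K)
  have hs : Group.IsSolvable (G ⧸ M) := by
    have h1 := solvable_quot S hS hc
    let f : G ⧸ M →* (G ⧸ K) ⧸ S := QuotientGroup.map M S (QuotientGroup.mk' K) le_rfl
    refine Group.isSolvable_of_isSolvable_injective (f := f) ?_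
    rw [injective_iff_map_eq_one]
    intro y hy
    obtain ⟨g, rfl⟩ := QuotientGroup.mk'_surjective M y
    have h2 : QuotientGroup.mk' K g ∈ S := (QuotientGroup.eq_one_iff _).1 hy
    exact (QuotientGroup.eq_one_iff g).2 h2
  have hsub : ({p, q, r} : Finset ℕ) ⊆ ρ := by
    intro t ht
    simp only [Finset.mem_insert, Finset.mem_singleton] at ht
    rcases ht with rfl | rfl | rfl <;> assumption
  have hρ' : Coc G {p, q, r} := ⟨fun t ht => hρ.1 t (hsub ht), fun t ht u hu => hρ.2 t (hsub ht) u (hsub hu)⟩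
  refine three K M hKM hK hs hpq (Ne.symm hr'.1) (Ne.symm hr'.2) hρ' ?_ ?_
  · rw [hidx]
    exact (hρ.1 p hp).1.dvd_mul.1 hpd
  · rw [hidx]
    exact (hρ.1 q hq).1.dvd_mul.1 hqd

/-- The part of a coclique prime to `|K| |G/K : S|` is a coclique of `S`. -/
theorem coc_filter (K : Subgroup G) [K.Normal] (S : Subgroup (G ⧸ K)) {ρ : Finset ℕ} (hρ : Coc G ρ) :
    Coc ↥S (ρ.filter fun r => ¬ r ∣ Nat.card ↥K * S.index) := by
  constructor
  · intro r hr
    rw [Finset.mem_filter] at hr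
    obtain ⟨h1, h2⟩ := hρ.1 r hr.1
    refine ⟨h1, ?_⟩
    have h3 : Nat.card G = Nat.card ↥S * (Nat.card ↥K * S.index) := by
      rw [Subgroup.card_eq_card_quotient_mul_card_subgroup K, ← Subgroup.card_mul_index S]
      ring
    rw [h3] at h2
    exact (h1.dvd_mul.1 h2).resolve_right hr.2
  · intro r hr s hs hrs hx
    rw [Finset.mem_filter] at hr hs
    exact hρ.2 r hr.1 s hs.1 hrs (exists_order_quot K (Nat.mul_ne_zero (hρ.1 r hr.1).1.ne_zero
      (hρ.1 s hs.1).1.ne_zero) (exists_order_subgroup hx))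

/-- `t(S) ≥ t(G) - 1`. -/
theorem exists_coclique (K : Subgroup G) [K.Normal] (hK : Group.IsSolvable ↥K) (S : Subgroup (G ⧸ K)) [S.Normal]
    (hS : IsComp S) (hc : centralizer (S : Set (G ⧸ K)) = ⊥) {ρ : Finset ℕ} (hρ : Coc G ρ) :
    ∃ σ : Finset ℕ, Coc ↥S σ ∧ ρ.card ≤ σ.card + 1 := by
  classical
  by_cases h3 : 3 ≤ ρ.card
  · refine ⟨_, coc_filter K S hρ, ?_⟩
    have h1 := Finset.card_filter_add_card_filter_not (s := ρ) (fun r => ¬ r ∣ Nat.card ↥K * S.index)
    have h2 : (ρ.filter fun r => ¬ ¬ r ∣ Nat.card ↥K * S.index).card ≤ 1 := by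
      rw [Finset.card_le_one]
      intro a ha b hb
      rw [Finset.mem_filter, not_not] at ha hb
      exact coclique K hK S hS hc hρ h3 ha.1 hb.1 ha.2 hb.2
    omega
  · refine ⟨{2}, ⟨fun r hr => ?_, fun r hr s hs hrs => ?_⟩, ?_⟩
    · rw [Finset.mem_singleton] at hr
      subst hr
      exact ⟨Nat.prime_two, hS.two_dvd⟩
    · rw [Finset.mem_singleton] at hr hs
      exact absurd (hr.trans hs.symm) hrs
    · rw [Finset.card_singleton]
      omega

/-! ### Sylow subgroups -/

/-- `p ∤ |K|`, `p ∤ |G/K : S|`: isomorphic Sylow `p`-subgroups. -/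
theorem sylow_equiv (K : Subgroup G) [K.Normal] (S : Subgroup (G ⧸ K)) [S.Normal] {p : ℕ} (hp : p.Prime)
    (hpK : ¬ p ∣ Nat.card ↥K) (hpS : ¬ p ∣ S.index) (P : Sylow p G) (Q : Sylow p ↥S) : Nonempty (↥P ≃* ↥Q) := by
  classical
  have hp' := Fact.mk hp
  -- the image of `P`
  have hinj : Function.Injective ((QuotientGroup.mk' K).domRestrict (P : Subgroup G)) := by
    rw [injective_iff_map_eq_one]
    intro x hx
    have h1 : (x : G) ∈ K := (QuotientGroup.eq_one_iff (x : G)).1 hx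
    by_contra hx1
    apply hpK
    obtain ⟨k, hk⟩ := IsPGroup.iff_orderOf.1 P.isPGroup' x
    have h2 : orderOf (⟨(x : G), h1⟩ : ↥K) = p ^ k := by
      rw [← Subgroup.orderOf_coe, ← hk, ← Subgroup.orderOf_coe]
    have h3 : p ∣ orderOf (⟨(x : G), h1⟩ : ↥K) := by
      rw [h2]
      apply dvd_pow_self
      rintro rfl
      rw [pow_zero, orderOf_eq_one_iff] at hk
      exact hx1 hk
    exact h3.trans (orderOf_dvd_natCard _)
  set P' : Subgroup (G ⧸ K) := (P : Subgroup G).map (QuotientGroup.mk' K) with hP'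
  have hP'p : IsPGroup p ↥P' := P.isPGroup'.map _
  have hPS : P' ≤ S := by
    intro y hy
    rw [← QuotientGroup.eq_one_iff]
    by_contra hy1
    apply hpS
    obtain ⟨k, hk⟩ := IsPGroup.iff_orderOf.1 hP'p ⟨y, hy⟩
    rw [← Subgroup.orderOf_coe] at hk
    change orderOf y = p ^ k at hk
    have h1 : orderOf ((y : (G ⧸ K) ⧸ S)) ∣ p ^ k := by
      rw [← hk]
      exact orderOf_map_dvd (QuotientGroup.mk' S) y
    obtain ⟨j, -, hj⟩ := (Nat.dvd_prime_pow hp).1 h1
    have h2 : p ∣ orderOf ((y : (G ⧸ K) ⧸ S)) := by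
      rw [hj]
      apply dvd_pow_self
      rintro rfl
      rw [pow_zero, orderOf_eq_one_iff] at hj
      exact hy1 hj
    rw [Subgroup.index_eq_card]
    exact h2.trans (orderOf_dvd_natCard _)
  have e1 : ↥P ≃* ↥P' := MulEquiv.ofBijective
    (((QuotientGroup.mk' K).domRestrict (P : Subgroup G)).codRestrict P' fun x => ⟨x, x.2, rfl⟩)
    ⟨fun a b hab => hinj (congrArg Subtype.val hab), by
      rintro ⟨y, x, hx, rfl⟩
      exact ⟨⟨x, hx⟩, rfl⟩⟩
  have e2 : ↥(P'.subgroupOf S) ≃* ↥P' := subgroupOfEquivOfLe hPS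
  have hcard : Nat.card ↥(P'.subgroupOf S) = p ^ (Nat.card ↥S).factorization p := by
    rw [Nat.card_congr e2.toEquiv, ← Nat.card_congr e1.toEquiv]
    refine P.card_eq_multiplicity.trans ?_
    congr 1
    have h3 : Nat.card G = Nat.card ↥S * (Nat.card ↥K * S.index) := by
      rw [Subgroup.card_eq_card_quotient_mul_card_subgroup K, ← Subgroup.card_mul_index S]
      ring
    have h4 : Nat.card ↥K ≠ 0 := Nat.card_pos.ne'
    have h5 : S.index ≠ 0 := Subgroup.index_ne_zero_of_finite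
    rw [h3, Nat.factorization_mul Nat.card_pos.ne' (Nat.mul_ne_zero h4 h5), Nat.factorization_mul h4 h5]
    simp only [Finsupp.coe_add, Pi.add_apply]
    rw [Nat.factorization_eq_zero_of_not_dvd hpK, Nat.factorization_eq_zero_of_not_dvd hpS, add_zero, add_zero]
  let R : Sylow p ↥S := Sylow.ofCard (P'.subgroupOf S) hcard
  obtain ⟨g, hg⟩ := MulAction.exists_smul_eq ↥S R Q
  have e3 : ↥R ≃* ↥Q := by
    rw [← hg]
    exact R.equivSMul g
  exact ⟨e1.trans (e2.symm.trans e3)⟩

/-- **Vasil'ev's theorem.** -/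
theorem main (hG : ¬ Group.IsSolvable G)
    (h2 : ∃ p : ℕ, p.Prime ∧ p ≠ 2 ∧ p ∣ Nat.card G ∧ ¬ ∃ x : G, orderOf x = 2 * p)
    (K : Subgroup G) [K.Normal] (hK : Group.IsSolvable ↥K)
    (hKmax : ∀ M : Subgroup G, M.Normal → Group.IsSolvable ↥M → M ≤ K) :
    ∃ S : Subgroup (G ⧸ K), IsComp S ∧ S.Normal ∧ centralizer (S : Set (G ⧸ K)) = ⊥ ∧
      (∀ ρ : Finset ℕ, Coc G ρ → 3 ≤ ρ.card → ∀ p ∈ ρ, ∀ q ∈ ρ, p ∣ Nat.card ↥K * S.index →
        q ∣ Nat.card ↥K * S.index → p = q) ∧
      (AltL2 ↥S ∨ ∀ p : ℕ, p.Prime → p ≠ 2 → p ∣ Nat.card G → (¬ ∃ x : G, orderOf x = 2 * p) →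
        ¬ p ∣ Nat.card ↥K ∧ ¬ p ∣ S.index) := by
  obtain ⟨p, hp, hp2, hpG, h⟩ := h2
  obtain ⟨S, hS, hSn, hSc, -⟩ := exists_socle hG hp hp2 hpG h K hK hKmax
  refine ⟨S, hS, hSn, hSc, fun ρ hρ h3 p hp q hq => coclique K hK S hS hSc hρ h3 hp hq, ?_⟩
  by_cases hA : AltL2 ↥S
  · exact Or.inl hA
  · right
    intro q hq hq2 hqG hq'
    obtain ⟨T, hT, hTn, hTc, h1⟩ := exists_socle hG hq hq2 hqG hq' K hK hKmax
    have hTS := eq_of_normal hS hT hSn hTn hSc
    subst hTS
    exact h1.resolve_left hA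

end Cfsg.Agent.H414.Vasiliev
end
end

-- part: H420/Reduce
section
set_option linter.all false
open scoped Cfsg.Agent.FastGrp

/-!
# The reduction for recognition by prime graph (helper420)

`Red G K S` : `K` is the largest solvable normal subgroup of `G`, `S` the simple normal subgroup of `G / K` with trivial
centralizer, with the properties used for the recognition of simple groups by the prime graph:

* `adj` : adjacent in the prime graph of `S` ⇒ adjacent in that of `G`; `pi` : `π(S) ⊆ π(G)`;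
* `coc` : at most one prime of a coclique of at least three vertices of `G` does not divide `|S|` (indeed divides
  `|K| |G/K : S|`);
* `two` : an odd prime not adjacent to 2 divides `|S|` and does not divide `|K|`, `|G/K : S|`, except if `S ≅ A₇`, `L₂(q)`;
* `exists_red` : existence, given a coclique of at least three vertices and an odd vertex not adjacent to 2;
* `Red.named` : `S` has a name (classification); `Red.quasi` : the conclusion of quasirecognition.
-/

set_option autoImplicit false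
set_option linter.unusedSectionVars false
set_option linter.unusedVariables false

namespace Cfsg.Agent.H420.QR

open Subgroup
open Cfsg.Agent.H414.Vasiliev

universe u v

/-- a coclique of the prime graph -/
structure IsCoq (G : Type*) [Group G] (ρ : Finset ℕ) : Prop where
  prime : ∀ r ∈ ρ, r.Prime
  dvd : ∀ r ∈ ρ, r ∣ Nat.card G
  nadj : ∀ r ∈ ρ, ∀ s ∈ ρ, r ≠ s → ¬ ∃ x : G, orderOf x = r * s

theorem IsCoq.coc {G : Type*} [Group G] {ρ : Finset ℕ} (h : IsCoq G ρ) : Coc G ρ :=
  ⟨fun r hr => ⟨h.prime r hr, h.dvd r hr⟩, h.nadj⟩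

theorem IsCoq.subset {G : Type*} [Group G] {ρ σ : Finset ℕ} (h : IsCoq G ρ) (hσ : σ ⊆ ρ) : IsCoq G σ :=
  ⟨fun r hr => h.prime r (hσ hr), fun r hr => h.dvd r (hσ hr), fun r hr s hs => h.nadj r (hσ hr) s (hσ hs)⟩

/-- the data of the reduction -/
structure Red (G : Type u) [Group G] (K : Subgroup G) [K.Normal] (S : Subgroup (G ⧸ K)) [S.Normal] : Prop where
  solv : Group.IsSolvable ↥K
  max : ∀ M : Subgroup G, M.Normal → Group.IsSolvable ↥M → M ≤ K
  simple : IsSimpleGroup ↥S
  nonab : ¬ IsMulCommutative ↥S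
  cent : centralizer (S : Set (G ⧸ K)) = ⊥
  out : Group.IsSolvable ((G ⧸ K) ⧸ S)
  adj : ∀ r s : ℕ, r ≠ 0 → s ≠ 0 → (∃ x : ↥S, orderOf x = r * s) → ∃ x : G, orderOf x = r * s
  pi : Nat.card ↥S ∣ Nat.card G
  coc' : ∀ ρ : Finset ℕ, IsCoq G ρ → 3 ≤ ρ.card → ∀ r ∈ ρ, ∀ s ∈ ρ, r ∣ Nat.card ↥K * S.index →
    s ∣ Nat.card ↥K * S.index → r = s
  two : Cfsg.Agent.H414.Rad.AltL2 ↥S ∨ ∀ p : ℕ, p.Prime → p ≠ 2 → p ∣ Nat.card G → (¬ ∃ x : G, orderOf x = 2 * p) →
        p ∣ Nat.card ↥S ∧ ¬ p ∣ Nat.card ↥K ∧ ¬ p ∣ S.index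

variable {G : Type u} [Group G] [Finite G] {K : Subgroup G} [K.Normal] {S : Subgroup (G ⧸ K)} [S.Normal]

theorem card_eq_mul : Nat.card G = Nat.card ↥S * (Nat.card ↥K * S.index) := by
  rw [Subgroup.card_eq_card_quotient_mul_card_subgroup K, Subgroup.card_eq_card_quotient_mul_card_subgroup S,
    Subgroup.index]
  ring

theorem Red.coc (h : Red G K S) {ρ : Finset ℕ} (hρ : IsCoq G ρ) (h3 : 3 ≤ ρ.card) {r s : ℕ} (hr : r ∈ ρ)
    (hs : s ∈ ρ) (hrS : ¬ r ∣ Nat.card ↥S) (hsS : ¬ s ∣ Nat.card ↥S) : r = s := by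
  have key : ∀ t ∈ ρ, ¬ t ∣ Nat.card ↥S → t ∣ Nat.card ↥K * S.index := fun t ht htS => by
    have h1 := hρ.dvd t ht
    rw [card_eq_mul (K := K) (S := S)] at h1
    exact ((hρ.prime t ht).dvd_mul.1 h1).resolve_left htS
  exact h.coc' ρ hρ h3 r hr s hs (key r hr hrS) (key s hs hsS)

/-- a coclique of `G` gives a coclique of `S` with at most one element less -/
theorem Red.filter (h : Red G K S) {ρ : Finset ℕ} (hρ : IsCoq G ρ) (h3 : 3 ≤ ρ.card) :
    IsCoq ↥S (ρ.filter fun r => r ∣ Nat.card ↥S) ∧ ρ.card ≤ (ρ.filter fun r => r ∣ Nat.card ↥S).card + 1 := by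
  refine ⟨⟨fun r hr => hρ.prime r (Finset.mem_filter.1 hr).1, fun r hr => (Finset.mem_filter.1 hr).2, ?_⟩, ?_⟩
  · intro r hr s hs hrs hx
    have hr' := (Finset.mem_filter.1 hr).1
    have hs' := (Finset.mem_filter.1 hs).1
    exact hρ.nadj r hr' s hs' hrs (h.adj r s (hρ.prime r hr').ne_zero (hρ.prime s hs').ne_zero hx)
  · have h1 := Finset.card_filter_add_card_filter_not (s := ρ) (fun r => r ∣ Nat.card ↥S)
    have h2 : (ρ.filter fun r => ¬ r ∣ Nat.card ↥S).card ≤ 1 := by
      rw [Finset.card_le_one]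
      intro a ha b hb
      rw [Finset.mem_filter] at ha hb
      exact h.coc hρ h3 ha.1 hb.1 ha.2 hb.2
    omega

theorem Red.dvd_of_two (h : Red G K S) (hA : ¬ Cfsg.Agent.H414.Rad.AltL2 ↥S) {p : ℕ} (hp : p.Prime) (hp2 : p ≠ 2)
    (hpG : p ∣ Nat.card G) (hx : ¬ ∃ x : G, orderOf x = 2 * p) : p ∣ Nat.card ↥S :=
  ((h.two.resolve_left hA) p hp hp2 hpG hx).1

/-- `S` has a name. -/
theorem Red.named (h : Red G K S) : ∃ g, H436.IsNamed g ↥S := by
  have := h.simple
  exact H436.name h.nonab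

/-- adjacency in a section -/
theorem adj_of_section {r s : ℕ} (hr : r ≠ 0) (hs : s ≠ 0) (hx : ∃ x : ↥S, orderOf x = r * s) :
    ∃ x : G, orderOf x = r * s := by
  obtain ⟨x, hx⟩ := hx
  obtain ⟨y, hy⟩ := QuotientGroup.mk'_surjective K (x : G ⧸ K)
  have h1 : orderOf ((QuotientGroup.mk' K) y) = r * s := by rw [hy, Subgroup.orderOf_coe, hx]
  have h2 : r * s ∣ orderOf y := by rw [← h1]; exact orderOf_map_dvd _ y
  obtain ⟨k, hk⟩ := h2
  have hk0 : k ≠ 0 := by
    rintro rfl
    rw [mul_zero] at hk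
    exact (orderOf_pos y).ne' hk
  refine ⟨y ^ k, ?_⟩
  rw [orderOf_pow_of_dvd hk0 ⟨r * s, by rw [hk, mul_comm]⟩, hk, Nat.mul_div_cancel _ (Nat.pos_of_ne_zero hk0)]

theorem isCoq_not_solvable {ρ : Finset ℕ} (hρ : IsCoq G ρ) (h3 : 3 ≤ ρ.card) : ¬ Group.IsSolvable G :=
  (S3633.result ρ h3 hρ.coc (⊥ : Subgroup G) inferInstance).2

/-- **The reduction for a given largest solvable normal subgroup.** -/
theorem exists_red_of (hG : ¬ Group.IsSolvable G)
    (h2 : ∃ p : ℕ, p.Prime ∧ p ≠ 2 ∧ p ∣ Nat.card G ∧ ¬ ∃ x : G, orderOf x = 2 * p)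
    (K : Subgroup G) [K.Normal] (hK : Group.IsSolvable ↥K)
    (hKmax : ∀ M : Subgroup G, M.Normal → Group.IsSolvable ↥M → M ≤ K) :
    ∃ (S : Subgroup (G ⧸ K)) (_ : S.Normal), Red G K S := by
  obtain ⟨S, hS, hSn, hSc, h1, h3⟩ := main hG h2 K hK hKmax
  have hsimp := hS.simple
  have hna : ¬ IsMulCommutative ↥S := fun hc => by
    obtain ⟨a, b, hab⟩ := hS.noncomm
    exact hab (hc.1.1 a b)
  refine ⟨S, hSn, ⟨hK, hKmax, hsimp, hna, hSc, ?_, fun r s hr hs hx => adj_of_section hr hs hx, ?_,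
    fun ρ hρ h3 r hr s hs => h1 ρ hρ.coc h3 r hr s hs, ?_⟩⟩
  · -- Schreier
    have hout := S5758.result (G := ↥S)
    let f : G ⧸ K →* MulAut ↥S := MulAut.conjNormal
    have hker : f.ker = ⊥ := by
      rw [eq_bot_iff]
      intro x hx
      rw [← hSc, mem_centralizer_iff]
      intro y hy
      have h4 := congrArg Subtype.val (DFunLike.congr_fun (MonoidHom.mem_ker.1 hx) (⟨y, hy⟩ : ↥S))
      change x * y * x⁻¹ = y at h4
      have h5 : x * y = y * x := by
        calc x * y = (x * y * x⁻¹) * x := by group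
          _ = y * x := by rw [h4]
      exact h5.symm
    -- the composite to `Out S` has kernel `S`
    let g : G ⧸ K →* Cfsg.Out ↥S := (QuotientGroup.mk' _).comp f
    have hg : g.ker ≤ S := by
      intro x hx
      have h4 : f x ∈ (MulAut.conj : ↥S →* MulAut ↥S).range := by
        have h5 : (QuotientGroup.mk' _) (f x) = 1 := hx
        rw [QuotientGroup.mk'_apply, QuotientGroup.eq_one_iff] at h5
        exact h5
      obtain ⟨s, hs⟩ := h4
      have h6 : f (x * (s : G ⧸ K)⁻¹) = 1 := by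
        have h7 : f (s : G ⧸ K) = MulAut.conj s := by
          ext t
          rfl
        rw [map_mul, map_inv, h7, hs, mul_inv_cancel]
      have h8 : x * (s : G ⧸ K)⁻¹ ∈ f.ker := h6
      rw [hker, mem_bot, mul_inv_eq_one] at h8
      rw [h8]
      exact s.2
    have hle : S ≤ g.ker := by
      intro x hx
      change (QuotientGroup.mk' _) (f x) = 1
      rw [QuotientGroup.mk'_apply, QuotientGroup.eq_one_iff]
      refine ⟨⟨x, hx⟩, ?_⟩
      ext t
      rfl
    have heq : g.ker = S := le_antisymm hg hle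
    have hinj : Function.Injective (QuotientGroup.lift S g (fun x hx => hle hx)) := by
      rw [injective_iff_map_eq_one]
      intro y hy
      obtain ⟨x, rfl⟩ := QuotientGroup.mk_surjective y
      exact (QuotientGroup.eq_one_iff x).2 (hg hy)
    exact Group.isSolvable_of_isSolvable_injective hinj
  · rw [card_eq_mul (K := K) (S := S)]
    exact dvd_mul_right _ _
  · rcases h3 with h3 | h3
    · exact Or.inl h3
    · right
      intro p hp hp2 hpG hx
      obtain ⟨h4, h5⟩ := h3 p hp hp2 hpG hx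
      refine ⟨?_, h4, h5⟩
      rw [card_eq_mul (K := K) (S := S)] at hpG
      rcases hp.dvd_mul.1 hpG with h6 | h6
      · exact h6
      · rcases hp.dvd_mul.1 h6 with h7 | h7
        · exact absurd h7 h4
        · exact absurd h7 h5

/-- **The reduction.** -/
theorem exists_red {G : Type u} [Group G] [Finite G] {ρ : Finset ℕ} (hρ : IsCoq G ρ) (h3 : 3 ≤ ρ.card)
    (h2 : ∃ p : ℕ, p.Prime ∧ p ≠ 2 ∧ p ∣ Nat.card G ∧ ¬ ∃ x : G, orderOf x = 2 * p) :
    ∃ (K : Subgroup G) (_ : K.Normal) (S : Subgroup (G ⧸ K)) (_ : S.Normal), Red G K S := by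
  obtain ⟨R, hRc, hRs, hRm⟩ := Cfsg.Agent.SignalizersComponents.ComponentExists.exists_solvableRadical G
  obtain ⟨S, hS, h⟩ := exists_red_of (isCoq_not_solvable hρ h3) h2 R hRs hRm
  exact ⟨R, inferInstance, S, hS, h⟩

/-- **The conclusion of quasirecognition.** -/
theorem Red.quasi (h : Red G K S) {L : Type v} [Group L] (e : Nonempty (↥S ≃* L)) :
    ∃ (K H : Subgroup G) (_ : K.Normal) (_ : H.Normal), K ≤ H ∧ Group.IsSolvable ↥K ∧ Group.IsSolvable (G ⧸ H) ∧
      Nonempty (↥H ⧸ K.subgroupOf H ≃* L) := by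
  obtain ⟨e⟩ := e
  have hle : K ≤ S.comap (QuotientGroup.mk' K) := by
    intro x hx
    rw [mem_comap, QuotientGroup.mk'_apply, (QuotientGroup.eq_one_iff x).2 hx]
    exact S.one_mem
  refine ⟨K, S.comap (QuotientGroup.mk' K), inferInstance, inferInstance, hle, h.solv, ?_, ?_⟩
  · -- `G / H ≅ (G / K) / S`
    let g : G →* (G ⧸ K) ⧸ S := (QuotientGroup.mk' S).comp (QuotientGroup.mk' K)
    have hle' : ∀ x ∈ S.comap (QuotientGroup.mk' K), g x = 1 := by
      intro x hx
      change (QuotientGroup.mk' S) ((QuotientGroup.mk' K) x) = 1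
      rw [QuotientGroup.mk'_apply, QuotientGroup.eq_one_iff]
      exact hx
    have hinj : Function.Injective (QuotientGroup.lift (S.comap (QuotientGroup.mk' K)) g hle') := by
      rw [injective_iff_map_eq_one]
      intro y hy
      obtain ⟨x, rfl⟩ := QuotientGroup.mk_surjective y
      have h1 : (QuotientGroup.mk' S) ((QuotientGroup.mk' K) x) = 1 := hy
      rw [QuotientGroup.mk'_apply, QuotientGroup.eq_one_iff] at h1
      exact (QuotientGroup.eq_one_iff x).2 h1
    have := h.out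
    exact Group.isSolvable_of_isSolvable_injective hinj
  · let f : ↥(S.comap (QuotientGroup.mk' K)) →* ↥S := (QuotientGroup.mk' K).subgroupComap S
    have hf : Function.Surjective f := by
      rintro ⟨y, hy⟩
      obtain ⟨x, rfl⟩ := QuotientGroup.mk'_surjective K y
      exact ⟨⟨x, hy⟩, rfl⟩
    have hk : f.ker = K.subgroupOf (S.comap (QuotientGroup.mk' K)) := by
      ext x
      rw [MonoidHom.mem_ker, mem_subgroupOf, ← QuotientGroup.eq_one_iff]
      constructor
      · intro hx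
        exact congrArg Subtype.val hx
      · intro hx
        exact Subtype.ext hx
    exact ⟨((QuotientGroup.quotientMulEquivOfEq hk.symm).trans
      (QuotientGroup.quotientKerEquivOfSurjective f hf)).trans e⟩

/-! ### Groups with the same prime graph -/

/-- cocliques are transported -/
theorem IsCoq.of_same {G : Type u} {L : Type v} [Group G] [Group L] {ρ : Finset ℕ}
    (h1 : ∀ r : ℕ, r.Prime → r ∣ Nat.card L → r ∣ Nat.card G)
    (h2 : ∀ r s : ℕ, r.Prime → s.Prime → r ≠ s → (∃ y : G, orderOf y = r * s) → ∃ x : L, orderOf x = r * s)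
    (h : IsCoq L ρ) : IsCoq G ρ :=
  ⟨h.prime, fun r hr => h1 r (h.prime r hr) (h.dvd r hr),
    fun r hr s hs hrs hx => h.nadj r hr s hs hrs (h2 r s (h.prime r hr) (h.prime s hs) hrs hx)⟩

/-- What is used of `G` in the elimination of the candidates for `S`: the prime graph of `L`. -/
structure SHyp (L : Type v) [Group L] (S : Type u) [Group S] : Prop where
  pi : ∀ r : ℕ, r.Prime → r ∣ Nat.card S → r ∣ Nat.card L
  adj : ∀ r s : ℕ, r.Prime → s.Prime → r ≠ s → (∃ x : S, orderOf x = r * s) → ∃ x : L, orderOf x = r * s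
  coc : ∀ ρ : Finset ℕ, IsCoq L ρ → 3 ≤ ρ.card → ∀ r ∈ ρ, ∀ s ∈ ρ, ¬ r ∣ Nat.card S → ¬ s ∣ Nat.card S → r = s
  two : Cfsg.Agent.H414.Rad.AltL2 S ∨ ∀ p : ℕ, p.Prime → p ≠ 2 → p ∣ Nat.card L → (¬ ∃ x : L, orderOf x = 2 * p) →
        p ∣ Nat.card S

/-- **The elimination hypotheses.** -/
theorem Red.sHyp (h : Red G K S) {L : Type v} [Group L]
    (hL : (∀ r : ℕ, r.Prime → (r ∣ Nat.card L ↔ r ∣ Nat.card G)) ∧
      (∀ r s : ℕ, r.Prime → s.Prime → r ≠ s → ((∃ x : L, orderOf x = r * s) ↔ (∃ y : G, orderOf y = r * s)))) :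
    SHyp L ↥S := by
  refine ⟨fun r hr hd => (hL.1 r hr).2 (hd.trans h.pi), ?_, ?_, ?_⟩
  · intro r s hr hs hrs hx
    exact (hL.2 r s hr hs hrs).2 (h.adj r s hr.ne_zero hs.ne_zero hx)
  · intro ρ hρ h3 r hr s hs
    exact h.coc (hρ.of_same (fun r hr hd => (hL.1 r hr).1 hd)
      (fun r s hr hs hrs hx => (hL.2 r s hr hs hrs).2 hx)) h3 hr hs
  · rcases h.two with h1 | h1
    · exact Or.inl h1
    · right
      intro p hp hp2 hpL hx
      refine (h1 p hp hp2 ((hL.1 p hp).1 hpL) ?_).1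
      rintro ⟨y, hy⟩
      exact hx ((hL.2 2 p Nat.prime_two hp hp2.symm).2 ⟨y, hy⟩)

/-- the part of a coclique of `L` dividing `|S|` is a coclique of `S`; at most one element is lost -/
theorem SHyp.filter {L : Type v} [Group L] {S : Type u} [Group S] (h : SHyp L S) {ρ : Finset ℕ} (hρ : IsCoq L ρ)
    (h3 : 3 ≤ ρ.card) :
    IsCoq S (ρ.filter fun r => r ∣ Nat.card S) ∧ ρ.card ≤ (ρ.filter fun r => r ∣ Nat.card S).card + 1 := by
  refine ⟨⟨fun r hr => hρ.prime r (Finset.mem_filter.1 hr).1, fun r hr => (Finset.mem_filter.1 hr).2, ?_⟩, ?_⟩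
  · intro r hr s hs hrs hx
    have hr' := (Finset.mem_filter.1 hr).1
    have hs' := (Finset.mem_filter.1 hs).1
    exact hρ.nadj r hr' s hs' hrs (h.adj r s (hρ.prime r hr') (hρ.prime s hs') hrs hx)
  · have h1 := Finset.card_filter_add_card_filter_not (s := ρ) (fun r => r ∣ Nat.card S)
    have h2 : (ρ.filter fun r => ¬ r ∣ Nat.card S).card ≤ 1 := by
      rw [Finset.card_le_one]
      intro a ha b hb
      rw [Finset.mem_filter] at ha hb
      exact h.coc ρ hρ h3 a ha.1 b hb.1 ha.2 hb.2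
    omega

/-- **The reduction from the prime graph of `L`.** -/
theorem exists_red_of_same {G : Type u} [Group G] [Finite G] {L : Type v} [Group L]
    (hL : (∀ r : ℕ, r.Prime → (r ∣ Nat.card L ↔ r ∣ Nat.card G)) ∧
      (∀ r s : ℕ, r.Prime → s.Prime → r ≠ s → ((∃ x : L, orderOf x = r * s) ↔ (∃ y : G, orderOf y = r * s))))
    {ρ : Finset ℕ} (hρ : IsCoq L ρ) (h3 : 3 ≤ ρ.card)
    (h2 : ∃ p : ℕ, p.Prime ∧ p ≠ 2 ∧ p ∣ Nat.card L ∧ ¬ ∃ x : L, orderOf x = 2 * p) :
    ∃ (K : Subgroup G) (_ : K.Normal) (S : Subgroup (G ⧸ K)) (_ : S.Normal), Red G K S ∧ SHyp L ↥S := by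
  obtain ⟨p, hp, hp2, hpL, hx⟩ := h2
  obtain ⟨K, hK, S, hS, h⟩ := exists_red (G := G) (hρ.of_same (fun r hr hd => (hL.1 r hr).1 hd)
    (fun r s hr hs hrs hx => (hL.2 r s hr hs hrs).2 hx)) h3
    ⟨p, hp, hp2, (hL.1 p hp).1 hpL, fun ⟨y, hy⟩ => hx ((hL.2 2 p Nat.prime_two hp hp2.symm).2 ⟨y, hy⟩)⟩
  exact ⟨K, hK, S, hS, h, h.sHyp hL⟩

end Cfsg.Agent.H420.QR
end

-- part: H414/Spec
section
set_option linter.all false
open scoped Cfsg.Agent.FastGrp

/-!
# Groups with the same element orders as `L`: primes of the nonabelian composition factor (helper414)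

* `exists_radical`;
* `dvd_card_iff`, `coc_of_spec` : `ω(G) = ω(L)`;
* `exists_nonadj` : a disconnected prime graph gives an odd prime not adjacent to 2;
* `frame` : `ω(G) = ω(L)`, `Γ(L)` disconnected, `H / N` a nonabelian composition factor of `G`: of two primes of a
  coclique (of at least three primes) of `L` one divides `|H / N|`.
-/

set_option autoImplicit false

namespace Cfsg.Agent.H414.Spec

open Subgroup Cfsg.Agent.H414.Adj Cfsg.Agent.H414.Vasiliev Cfsg.Agent.H414.Comp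

/-- the product of a solvable normal subgroup and a solvable subgroup -/
theorem isSolvable_sup {G : Type*} [Group G] {N A : Subgroup G} [N.Normal] (hN : Group.IsSolvable ↥N)
    (hA : Group.IsSolvable ↥A) : Group.IsSolvable ↥(N ⊔ A) := by
  set f : G →* G ⧸ N := QuotientGroup.mk' N with hf
  have hker : f.ker = N := QuotientGroup.ker_mk' N
  have hmap : (N ⊔ A).map f = A.map f := by
    rw [Subgroup.map_sup, (Subgroup.map_eq_bot_iff (f := f) N).mpr hker.ge, bot_sup_eq]
  have hA' : Group.IsSolvable ↥((N ⊔ A).map f) := by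
    rw [hmap]
    exact Group.isSolvable_of_surjective (f := f.subgroupMap A) (f.subgroupMap_surjective A)
  refine Group.isSolvable_of_ker_le_range (Subgroup.inclusion (le_sup_left : N ≤ N ⊔ A))
    (f.subgroupMap (N ⊔ A)) ?_
  rintro ⟨x, hx⟩ hx1
  rw [MonoidHom.mem_ker] at hx1
  have h1 : f x = 1 := congrArg Subtype.val hx1
  rw [← MonoidHom.mem_ker, hker] at h1
  exact ⟨⟨x, h1⟩, rfl⟩

/-- the solvable radical -/
theorem exists_radical (G : Type*) [Group G] [Finite G] : ∃ K : Subgroup G, K.Normal ∧ Group.IsSolvable ↥K ∧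
    ∀ M : Subgroup G, M.Normal → Group.IsSolvable ↥M → M ≤ K := by
  have hfin : (Set.Finite {N : Subgroup G | N.Normal ∧ Group.IsSolvable ↥N}) := Set.toFinite _
  obtain ⟨K, hK⟩ := hfin.exists_maximal ⟨⊥, (inferInstance : (⊥ : Subgroup G).Normal), inferInstance⟩
  obtain ⟨hKn, hKs⟩ := hK.prop
  refine ⟨K, hKn, hKs, fun M hM hMs => ?_⟩
  have h1 : (K ⊔ M : Subgroup G) ∈ {N : Subgroup G | N.Normal ∧ Group.IsSolvable ↥N} :=
    ⟨Subgroup.sup_normal K M, isSolvable_sup hKs hMs⟩
  exact le_sup_right.trans (hK.le_of_ge h1 le_sup_left)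

variable {G L : Type*} [Group G] [Finite G] [Group L] [Finite L]

theorem exists_iff (h : Set.range (orderOf : G → ℕ) = Set.range (orderOf : L → ℕ)) (n : ℕ) :
    (∃ x : G, orderOf x = n) ↔ ∃ x : L, orderOf x = n := by
  have : n ∈ Set.range (orderOf : G → ℕ) ↔ n ∈ Set.range (orderOf : L → ℕ) := by rw [h]
  exact this

theorem dvd_card_iff (h : Set.range (orderOf : G → ℕ) = Set.range (orderOf : L → ℕ)) {p : ℕ} (hp : p.Prime) :
    p ∣ Nat.card G ↔ p ∣ Nat.card L := by
  have := Fact.mk hp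
  constructor
  · intro hd
    obtain ⟨y, hy⟩ := (exists_iff h p).1 (exists_prime_orderOf_dvd_card' p hd)
    rw [← hy]
    exact orderOf_dvd_natCard y
  · intro hd
    obtain ⟨y, hy⟩ := (exists_iff h p).2 (exists_prime_orderOf_dvd_card' p hd)
    rw [← hy]
    exact orderOf_dvd_natCard y

theorem coc_of_spec (h : Set.range (orderOf : G → ℕ) = Set.range (orderOf : L → ℕ)) {ρ : Finset ℕ} (hρ : Coc L ρ) :
    Coc G ρ :=
  ⟨fun r hr => ⟨(hρ.1 r hr).1, (dvd_card_iff h (hρ.1 r hr).1).2 (hρ.1 r hr).2⟩,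
    fun r hr s hs hrs hx => hρ.2 r hr s hs hrs ((exists_iff h _).1 hx)⟩

omit [Finite L] in
/-- A disconnected prime graph of a group of even order: an odd prime not adjacent to 2. -/
theorem exists_nonadj (h2 : 2 ∣ Nat.card L)
    (hdisc : ∃ A : Set ℕ, (∃ r ∈ A, r.Prime ∧ r ∣ Nat.card L) ∧ (∃ s ∉ A, s.Prime ∧ s ∣ Nat.card L) ∧
      ∀ r ∈ A, ∀ s ∉ A, r.Prime → s.Prime → r ∣ Nat.card L → s ∣ Nat.card L → ¬ ∃ x : L, orderOf x = r * s) :
    ∃ p : ℕ, p.Prime ∧ p ≠ 2 ∧ p ∣ Nat.card L ∧ ¬ ∃ x : L, orderOf x = 2 * p := by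
  obtain ⟨A, ⟨r, hrA, hr, hrL⟩, ⟨s, hsA, hs, hsL⟩, h⟩ := hdisc
  by_cases h2A : 2 ∈ A
  · refine ⟨s, hs, ?_, hsL, h 2 h2A s hsA Nat.prime_two hs h2 hsL⟩
    rintro rfl
    exact hsA h2A
  · refine ⟨r, hr, ?_, hrL, ?_⟩
    · rintro rfl
      exact h2A hrA
    · rw [mul_comm]
      exact h r hrA 2 h2A hr Nat.prime_two hrL h2

/-- **The frame.** -/
theorem frame (h : Set.range (orderOf : G → ℕ) = Set.range (orderOf : L → ℕ))
    (hdisc : ∃ A : Set ℕ, (∃ r ∈ A, r.Prime ∧ r ∣ Nat.card L) ∧ (∃ s ∉ A, s.Prime ∧ s ∣ Nat.card L) ∧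
      ∀ r ∈ A, ∀ s ∉ A, r.Prime → s.Prime → r ∣ Nat.card L → s ∣ Nat.card L → ¬ ∃ x : L, orderOf x = r * s)
    (H : Subgroup G) (hH : H.IsSubnormal) (N : Subgroup ↥H) [N.Normal]
    (hs : IsSimpleGroup (↥H ⧸ N)) (hna : ¬ IsMulCommutative (↥H ⧸ N)) :
    (∀ p : ℕ, p.Prime → p ∣ Nat.card (↥H ⧸ N) → p ∣ Nat.card L) ∧
    ∀ ρ : Finset ℕ, Coc L ρ → 3 ≤ ρ.card → ∀ p ∈ ρ, ∀ q ∈ ρ, p ≠ q → p ∣ Nat.card (↥H ⧸ N) ∨ q ∣ Nat.card (↥H ⧸ N) := by
  have hG : ¬ Group.IsSolvable G := by
    intro hG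
    apply hna
    apply CompFactor.comm_of_solvable
    infer_instance
  have hcd : Nat.card (↥H ⧸ N) ∣ Nat.card G :=
    (Subgroup.card_quotient_dvd_card N).trans (Subgroup.card_subgroup_dvd_card H)
  constructor
  · intro p hp hd
    exact (dvd_card_iff h hp).1 (hd.trans hcd)
  have h2G : 2 ∣ Nat.card G := by
    by_contra h2
    exact hG (Cfsg.Agent.S0205.result (Nat.not_even_iff_odd.1 fun h => h2 h.two_dvd))
  obtain ⟨p₀, hp₀, hp₀2, hp₀L, hp₀x⟩ := exists_nonadj ((dvd_card_iff h Nat.prime_two).1 h2G) hdisc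
  obtain ⟨K, hKn, hKs, hKmax⟩ := exists_radical G
  obtain ⟨S, hS, hSn, hSc, -⟩ := exists_socle hG hp₀ hp₀2 ((dvd_card_iff h hp₀).2 hp₀L)
    (fun hx => hp₀x ((exists_iff h _).1 hx)) K hKs hKmax
  have hSs := hS.simple
  obtain ⟨e⟩ := CompFactor.equiv_of_factor K hKs S (solvable_quot S hS hSc) H hH N hna
  have hcard : Nat.card (↥H ⧸ N) = Nat.card ↥S := Nat.card_congr e.toEquiv
  intro ρ hρ h3 p hp q hq hpq
  have hρG := coc_of_spec h hρ
  have key : ∀ t ∈ ρ, ¬ t ∣ Nat.card ↥K * S.index → t ∣ Nat.card (↥H ⧸ N) := by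
    intro t ht htn
    obtain ⟨h1, h2⟩ := hρG.1 t ht
    have h4 : Nat.card G = Nat.card ↥S * (Nat.card ↥K * S.index) := by
      rw [Subgroup.card_eq_card_quotient_mul_card_subgroup K, ← Subgroup.card_mul_index S]
      ring
    rw [h4] at h2
    rw [hcard]
    exact (h1.dvd_mul.1 h2).resolve_right htn
  by_cases h5 : p ∣ Nat.card ↥K * S.index
  · right
    apply key q hq
    intro h6
    exact hpq (coclique K hKs S hS hSc hρG h3 hp hq h5 h6)
  · exact Or.inl (key p hp h5)

end Cfsg.Agent.H414.Spec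
end

-- part: H321/SpecEven/Odd
section
set_option linter.all false
open scoped Cfsg.Agent.FastGrp

/-!
# Odd primes of the radical, not adjacent to 2 (helper321)

`not_dvd` : `K` the solvable radical of `G`, `S` the simple socle of `G / K`, `p` an odd prime not adjacent to 2 and
`{2, p, r}` a coclique: `p` does not divide `|K| |G / K : S|` (also if `S` is `A₇` or `PSL(2, q)`).
-/

set_option autoImplicit false

namespace Cfsg.Agent.H321.SpecEven

open Subgroup Cfsg.Agent.H414.Adj Cfsg.Agent.H414.Vasiliev Cfsg.Agent.H414.Comp Cfsg.Agent.H414.Rad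
  Cfsg.Agent.H414.QuatSec

/-- the group `{1, a, b, ab}` -/
def four {X : Type*} [Group X] {a b : X} (ha : a * a = 1) (hb : b * b = 1) (hab : a * b = b * a) : Subgroup X where
  carrier := {x | x = 1 ∨ x = a ∨ x = b ∨ x = a * b}
  one_mem' := Or.inl rfl
  mul_mem' := by
    have h1 : a * (a * b) = b := by rw [← mul_assoc, ha, one_mul]
    have h2 : b * (a * b) = a := by rw [hab, ← mul_assoc, hb, one_mul]
    have h3 : a * b * a = b := by rw [hab, mul_assoc, ha, mul_one]
    have h4 : a * b * b = a := by rw [mul_assoc, hb, mul_one]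
    have h5 : a * b * (a * b) = 1 := by rw [← mul_assoc, h3, hb]
    rintro x y (rfl | rfl | rfl | rfl) (rfl | rfl | rfl | rfl)
    · left; rw [one_mul]
    · right; left; rw [one_mul]
    · right; right; left; rw [one_mul]
    · right; right; right; rw [one_mul]
    · right; left; rw [mul_one]
    · left; exact ha
    · right; right; right; rfl
    · right; right; left; exact h1
    · right; right; left; rw [mul_one]
    · right; right; right; exact hab.symm
    · left; exact hb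
    · right; left; exact h2
    · right; right; right; rw [mul_one]
    · right; right; left; exact h3
    · right; left; exact h4
    · left; exact h5
  inv_mem' := by
    have h1 : a⁻¹ = a := inv_eq_of_mul_eq_one_left ha
    have h2 : b⁻¹ = b := inv_eq_of_mul_eq_one_left hb
    rintro x (rfl | rfl | rfl | rfl)
    · left; exact inv_one
    · right; left; exact h1
    · right; right; left; exact h2
    · right; right; right; rw [mul_inv_rev, h1, h2]; exact hab.symm

theorem four_sq {X : Type*} [Group X] {a b : X} (ha : a * a = 1) (hb : b * b = 1) (hab : a * b = b * a) {x : X}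
    (hx : x ∈ four ha hb hab) : x * x = 1 := by
  have h3 : a * b * a = b := by rw [hab, mul_assoc, ha, mul_one]
  have h5 : a * b * (a * b) = 1 := by rw [← mul_assoc, h3, hb]
  rcases hx with rfl | rfl | rfl | rfl
  · exact one_mul 1
  · exact ha
  · exact hb
  · exact h5

/-- cyclic or quaternion, exponent two -/
theorem card_le_two {T : Type*} [Group T] [Finite T] (hT : IsQ T) (h : ∀ x : T, x * x = 1) : Nat.card T ≤ 2 := by
  rcases hT with hT | ⟨n, ⟨e⟩⟩
  · obtain ⟨g, hg⟩ := hT.exists_generator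
    have h1 : orderOf g = Nat.card T := orderOf_eq_card_of_forall_mem_zpowers hg
    have h2 : orderOf g ∣ 2 := orderOf_dvd_of_pow_eq_one (by rw [pow_two, h])
    have := Nat.le_of_dvd (by norm_num) h2
    omega
  · exfalso
    have hne : NeZero (2 ^ n) := ⟨by positivity⟩
    have h1 : orderOf (e.symm (QuaternionGroup.xa 0 : QuaternionGroup (2 ^ n))) = 4 := by
      rw [MulEquiv.orderOf_eq, QuaternionGroup.orderOf_xa]
    have h2 : orderOf (e.symm (QuaternionGroup.xa 0 : QuaternionGroup (2 ^ n))) ∣ 2 :=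
      orderOf_dvd_of_pow_eq_one (by rw [pow_two, h])
    rw [h1] at h2
    have := Nat.le_of_dvd (by norm_num) h2
    omega

variable {G : Type*} [Group G] [Finite G]

/-- `|K|` odd, `p ∣ |K|`, `2 p ∉ ω(G)`: impossible if `G / K` has a nonabelian simple subgroup -/
theorem false_of_dvd_rad (K : Subgroup G) [K.Normal] (hK2 : ¬ 2 ∣ Nat.card ↥K) (S : Subgroup (G ⧸ K)) (hS : IsComp S)
    {p : ℕ} (hp : p.Prime) (hp2 : p ≠ 2) (hpK : p ∣ Nat.card ↥K) (h : ¬ ∃ x : G, orderOf x = 2 * p) : False := by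
  classical
  have h2' : Fact (Nat.Prime 2) := ⟨Nat.prime_two⟩
  have hsimple := hS.simple
  have hsec : ∀ Q : Subgroup (G ⧸ K), IsPGroup 2 ↥Q → IsQ ↥Q := by
    intro Q hQ
    obtain ⟨T, hTp, hT, hTq⟩ := exists_isQ K hp hp2 hpK h Q hQ
    let f : ↥T →* ↥Q := ((QuotientGroup.mk' K).domRestrict T).codRestrict Q fun y => by
      rw [← hT]; exact ⟨y, y.2, rfl⟩
    have hf : Function.Surjective f := by
      rintro ⟨q, hq⟩
      rw [← hT] at hq
      obtain ⟨y, hy, rfl⟩ := hq
      exact ⟨⟨y, hy⟩, rfl⟩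
    have hinj : Function.Injective f := by
      rw [injective_iff_map_eq_one]
      intro x hx
      have h1 : (x : G) ∈ K := by
        have h2 := congrArg (fun y : ↥Q => (y : G ⧸ K)) hx
        exact (QuotientGroup.eq_one_iff (x : G)).1 h2
      obtain ⟨k, hk⟩ := hTp x
      have h3 : orderOf (x : G) ∣ 2 ^ k := orderOf_dvd_of_pow_eq_one (by
        have := congrArg (fun y : ↥T => (y : G)) hk
        simpa using this)
      have h4 : orderOf (x : G) ∣ Nat.card ↥K := Subgroup.orderOf_dvd_natCard K h1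
      have h5 : Nat.Coprime (2 ^ k) (Nat.card ↥K) :=
        Nat.Coprime.pow_left k ((Nat.Prime.coprime_iff_not_dvd Nat.prime_two).2 hK2)
      have h6 : orderOf (x : G) ∣ 1 := by
        rw [← h5]
        exact Nat.dvd_gcd h3 h4
      exact Subtype.ext (orderOf_eq_one_iff.1 (Nat.dvd_one.1 h6))
    let e : ↥T ≃* ↥Q := MulEquiv.ofBijective f ⟨hinj, hf⟩
    rcases hTq with hc | ⟨n, ⟨g⟩⟩
    · exact Or.inl (isCyclic_of_surjective e e.surjective)
    · exact Or.inr ⟨n, ⟨e.symm.trans g⟩⟩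
  obtain ⟨Q⟩ : Nonempty (Sylow 2 ↥S) := inferInstance
  have hQ : IsQD ↥(Q : Subgroup ↥S) := by
    have h1 := hsec ((Q : Subgroup ↥S).map S.subtype) (Q.isPGroup'.map _)
    have h2 : IsQD ↥((Q : Subgroup ↥S).map S.subtype) := by
      rcases h1 with h1 | h1
      · exact Or.inl h1
      · exact Or.inr (Or.inl h1)
    exact h2.congr ((Q : Subgroup ↥S).equivMapOfInjective _ S.subtype_injective).symm
  have hD := dihedral_of_simple hS.noncomm hS.two_dvd Q hQ
  obtain ⟨a, b, ha, hb, hab, hcab⟩ : ∃ a b : ↥S, orderOf a = 2 ∧ orderOf b = 2 ∧ a ≠ b ∧ Commute a b := by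
    obtain ⟨k, hk, ⟨e⟩⟩ := hD
    obtain ⟨j, hj⟩ := Q.isPGroup'.exists_card_eq
    have hj' : 2 * k = 2 ^ j := by
      rw [← hj, Nat.card_congr e.toEquiv, DihedralGroup.nat_card]
    obtain ⟨a, b, ha, hb, hab, hc⟩ := dihedral_four hk hj'
    refine ⟨(e.symm a : ↥(Q : Subgroup ↥S)), (e.symm b : ↥(Q : Subgroup ↥S)), ?_, ?_, ?_, ?_⟩
    · rw [Subgroup.orderOf_coe, MulEquiv.orderOf_eq, ha]
    · rw [Subgroup.orderOf_coe, MulEquiv.orderOf_eq, hb]
    · intro he
      exact hab (e.symm.injective (Subtype.ext he))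
    · show ((e.symm a : ↥(Q : Subgroup ↥S)) : ↥S) * (e.symm b : ↥(Q : Subgroup ↥S)) =
        (e.symm b : ↥(Q : Subgroup ↥S)) * (e.symm a : ↥(Q : Subgroup ↥S))
      rw [← Subgroup.coe_mul, ← Subgroup.coe_mul, ← map_mul, ← map_mul, hc.eq]
  have ha2 : orderOf (a : G ⧸ K) = 2 := by rw [Subgroup.orderOf_coe, ha]
  have hb2 : orderOf (b : G ⧸ K) = 2 := by rw [Subgroup.orderOf_coe, hb]
  have hsq : ∀ {x : G ⧸ K}, orderOf x = 2 → x * x = 1 := by
    intro x hx
    have h1 := pow_orderOf_eq_one x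
    rwa [hx, pow_two] at h1
  have hab' : (a : G ⧸ K) * b = b * a := congrArg Subtype.val hcab.eq
  set E := four (hsq ha2) (hsq hb2) hab' with hE
  have hEp : IsPGroup 2 ↥E := by
    intro x
    refine ⟨1, ?_⟩
    apply Subtype.ext
    rw [pow_one, pow_two]
    exact four_sq _ _ _ x.2
  have hEQ := card_le_two (hsec E hEp) fun x => Subtype.ext (four_sq _ _ _ x.2)
  have h5 : ({1, (a : G ⧸ K), (b : G ⧸ K)} : Finset (G ⧸ K)).card ≤ Nat.card ↥E := by
    rw [← SetLike.coe_sort_coe, Nat.card_coe_set_eq, ← Set.ncard_coe_finset]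
    apply Set.ncard_le_ncard _ (Set.toFinite _)
    intro x hx
    simp only [Finset.coe_insert, Finset.coe_singleton, Set.mem_insert_iff, Set.mem_singleton_iff] at hx
    rcases hx with rfl | rfl | rfl
    · exact Or.inl rfl
    · exact Or.inr (Or.inl rfl)
    · exact Or.inr (Or.inr (Or.inl rfl))
  have ha1 : (a : G ⧸ K) ≠ 1 := by
    intro h1
    rw [h1, orderOf_one] at ha2
    norm_num at ha2
  have hb1 : (b : G ⧸ K) ≠ 1 := by
    intro h1
    rw [h1, orderOf_one] at hb2
    norm_num at hb2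
  have hab1 : (a : G ⧸ K) ≠ b := fun h1 => hab (Subtype.ext h1)
  rw [Finset.card_insert_of_notMem, Finset.card_insert_of_notMem, Finset.card_singleton] at h5
  · omega
  · simpa using hab1
  · simp only [Finset.mem_insert, Finset.mem_singleton, not_or]
    exact ⟨ha1.symm, hb1.symm⟩

/-- **The primes of a coclique `{2, p, r}` different from 2.** -/
theorem not_dvd (K : Subgroup G) [K.Normal] (hK : Group.IsSolvable ↥K) (S : Subgroup (G ⧸ K)) [S.Normal]
    (hS : IsComp S) (hSc : centralizer (S : Set (G ⧸ K)) = ⊥) {p r : ℕ} (hp2 : p ≠ 2)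
    (hr2 : r ≠ 2) (hpr : p ≠ r) (hρ : Coc G {2, p, r}) : ¬ p ∣ Nat.card ↥K ∧ ¬ p ∣ S.index := by
  classical
  obtain ⟨hp, hpG⟩ := hρ.1 p (by simp)
  have h2p : ¬ ∃ x : G, orderOf x = 2 * p := hρ.2 2 (by simp) p (by simp) hp2.symm
  have h3 : 3 ≤ ({2, p, r} : Finset ℕ).card := by
    rw [Finset.card_insert_of_notMem, Finset.card_insert_of_notMem, Finset.card_singleton]
    · simpa using hpr
    · simp only [Finset.mem_insert, Finset.mem_singleton, not_or]
      exact ⟨hp2.symm, hr2.symm⟩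
  have hK1 : ¬ p ∣ Nat.card ↥K := by
    intro hpK
    have h2K : ¬ 2 ∣ Nat.card ↥K := by
      intro h2
      exact hp2 (coclique K hK S hS hSc hρ h3 (by simp) (by simp) (hpK.mul_right _) (h2.mul_right _))
    exact false_of_dvd_rad K h2K S hS hp hp2 hpK h2p
  refine ⟨hK1, ?_⟩
  have hpX : p ∣ Nat.card (G ⧸ K) := by
    have h1 : Nat.card G = Nat.card (G ⧸ K) * Nat.card ↥K := Subgroup.card_eq_card_quotient_mul_card_subgroup K
    rw [h1] at hpG
    exact (hp.dvd_mul.1 hpG).resolve_right hK1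
  have h2X : ¬ ∃ x : G ⧸ K, orderOf x = 2 * p := by
    rintro ⟨x, hx⟩
    obtain ⟨g, rfl⟩ := QuotientGroup.mk_surjective x
    apply h2p
    have h1 : 2 * p ∣ orderOf g := by
      rw [← hx]
      exact orderOf_map_dvd (QuotientGroup.mk' K) g
    obtain ⟨c, hc⟩ := h1
    have hc0 : c ≠ 0 := by
      rintro rfl
      rw [mul_zero] at hc
      exact (orderOf_pos g).ne' hc
    exact ⟨g ^ c, by rw [orderOf_pow_of_dvd hc0 (hc ▸ dvd_mul_left _ _), hc, Nat.mul_div_cancel _ (Nat.pos_of_ne_zero hc0)]⟩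
  exact (comp_of_nonadj hS (good_comp S hS) hp hp2 hpX h2X).2.2.1

end Cfsg.Agent.H321.SpecEven
end

-- part: H414/SpecFrame
section
set_option linter.all false
open scoped Cfsg.Agent.FastGrp

/-!
# Recognition by spectrum: the frame (helper414)

`G` a finite group, `L` a finite simple group, the orders of elements of `G` are orders of elements of `L`.

* `same_of_range` : equal spectra give equal prime graphs (the input of `H420.QR.exists_red_of_same`);
* `spec_quot`, `spec_sub` : sections inherit the inclusion of the spectra;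
* `exists_section` : a chief factor `V = K / M` of `G` below `K` with the preimage `X` of `S` in `G / M`, `X / V ≅ S`;
* `finish` : if the simple section `S` is `≅ L`, and `L` has no "isospectral covers" and no "isospectral almost simple
  overgroups", then `G ≅ L`.
-/

set_option autoImplicit false
set_option linter.unusedSectionVars false

universe u v

namespace Cfsg.Agent.H414.SpecFrame

open Subgroup

theorem range_closed {L : Type*} [Group L] [Finite L] {n d : ℕ} (hd : d ∣ n) (h : ∃ y : L, orderOf y = n) :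
    ∃ y : L, orderOf y = d := by
  obtain ⟨y, hy⟩ := h
  obtain ⟨c, hc⟩ := hd
  have hn : 0 < n := hy ▸ orderOf_pos y
  have hc0 : c ≠ 0 := by
    rintro rfl
    omega
  refine ⟨y ^ c, ?_⟩
  rw [orderOf_pow' y hc0, hy, hc, Nat.gcd_eq_right (Dvd.intro_left _ rfl)]
  exact Nat.mul_div_cancel _ (Nat.pos_of_ne_zero hc0)

/-- equal spectra give equal prime graphs -/
theorem same_of_range {G : Type u} [Group G] [Finite G] {L : Type v} [Group L] [Finite L]
    (h : Set.range (orderOf : G → ℕ) = Set.range (orderOf : L → ℕ)) :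
    (∀ r : ℕ, r.Prime → (r ∣ Nat.card L ↔ r ∣ Nat.card G)) ∧
      (∀ r s : ℕ, r.Prime → s.Prime → r ≠ s → ((∃ x : L, orderOf x = r * s) ↔ (∃ y : G, orderOf y = r * s))) := by
  have key : ∀ n : ℕ, (∃ x : L, orderOf x = n) ↔ (∃ y : G, orderOf y = n) := fun n => by
    have := Set.ext_iff.1 h n
    exact this.symm
  refine ⟨fun r hr => ?_, fun r s _ _ _ => key _⟩
  have := Fact.mk hr
  constructor
  · intro hd
    obtain ⟨x, hx⟩ := exists_prime_orderOf_dvd_card' r hd
    obtain ⟨y, hy⟩ := (key r).1 ⟨x, hx⟩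
    rw [← hy]
    exact orderOf_dvd_natCard y
  · intro hd
    obtain ⟨x, hx⟩ := exists_prime_orderOf_dvd_card' r hd
    obtain ⟨y, hy⟩ := (key r).2 ⟨x, hx⟩
    rw [← hy]
    exact orderOf_dvd_natCard y

variable {G : Type u} [Group G] [Finite G] {L : Type v} [Group L] [Finite L]

theorem spec_quot (hω : ∀ x : G, ∃ y : L, orderOf y = orderOf x) (M : Subgroup G) [M.Normal] :
    ∀ x : G ⧸ M, ∃ y : L, orderOf y = orderOf x := by
  intro x
  obtain ⟨g, rfl⟩ := QuotientGroup.mk'_surjective M x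
  exact range_closed (orderOf_map_dvd _ g) (hω g)

theorem spec_sub {X : Type*} [Group X] (hω : ∀ x : X, ∃ y : L, orderOf y = orderOf x) (H : Subgroup X) :
    ∀ x : H, ∃ y : L, orderOf y = orderOf x := by
  intro x
  obtain ⟨y, hy⟩ := hω (x : X)
  exact ⟨y, by rw [hy, Subgroup.orderOf_coe]⟩

/-- **A chief factor below `K`.** -/
theorem exists_section {K : Subgroup G} [K.Normal] (hs : Group.IsSolvable K) (hK : K ≠ ⊥) (S : Subgroup (G ⧸ K)) :
    ∃ (M : Subgroup G) (_ : M.Normal) (X : Subgroup (G ⧸ M)) (V : Subgroup X) (_ : V.Normal) (p : ℕ), p.Prime ∧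
      IsMulCommutative V ∧ (∀ v ∈ V, v ^ p = 1) ∧ V ≠ ⊥ ∧ Nonempty (X ⧸ V ≃* S) := by
  obtain ⟨M, hM⟩ := (Set.toFinite {M : Subgroup G | M.Normal ∧ M < K}).exists_maximal
    ⟨⊥, inferInstance, bot_lt_iff_ne_bot.2 hK⟩
  obtain ⟨⟨hMn, hMK⟩, hmax⟩ := hM
  let N : Subgroup (G ⧸ M) := K.map (QuotientGroup.mk' M)
  have hNn : N.Normal := inferInstance
  have hNs : Group.IsSolvable N := by
    have hsur : Function.Surjective ((QuotientGroup.mk' M).subgroupMap K) :=
      MonoidHom.subgroupMap_surjective _ _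
    exact Group.isSolvable_of_surjective hsur
  have hcomap : N.comap (QuotientGroup.mk' M) = K := by
    rw [Subgroup.comap_map_eq, QuotientGroup.ker_mk', sup_eq_left.2 hMK.le]
  have hN1 : N ≠ ⊥ := by
    intro h
    rw [h, MonoidHom.comap_bot, QuotientGroup.ker_mk'] at hcomap
    exact hMK.ne hcomap
  obtain ⟨W, p, hWn, hWN, hW1, hp, hWc, hWp⟩ := H477.exists_elem_normal N hN1
  have hWK : W = N := by
    have h1 : M ≤ W.comap (QuotientGroup.mk' M) := by
      intro x hx
      rw [Subgroup.mem_comap]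
      have h2 : (QuotientGroup.mk' M) x = 1 := (QuotientGroup.eq_one_iff (N := M) x).2 hx
      rw [h2]
      exact W.one_mem
    have h2 : W.comap (QuotientGroup.mk' M) ≤ K := by
      rw [← hcomap]
      exact Subgroup.comap_mono hWN
    have h3 : ¬ W.comap (QuotientGroup.mk' M) < K := by
      intro hlt
      have h4 := hmax ⟨inferInstance, hlt⟩ h1
      apply hW1
      rw [← Subgroup.map_comap_eq_self_of_surjective (QuotientGroup.mk'_surjective M) W,
        le_antisymm h4 h1, QuotientGroup.map_mk'_self]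
    have h5 : W.comap (QuotientGroup.mk' M) = K := by
      by_contra hne
      exact h3 (lt_of_le_of_ne h2 hne)
    rw [← Subgroup.map_comap_eq_self_of_surjective (QuotientGroup.mk'_surjective M) W, h5]
  -- the map `G / M → G / K`
  let π : G ⧸ M →* G ⧸ K := QuotientGroup.map M K (MonoidHom.id G) (by simpa using hMK.le)
  have hπs : Function.Surjective π := by
    intro y
    obtain ⟨g, rfl⟩ := QuotientGroup.mk'_surjective K y
    exact ⟨QuotientGroup.mk' M g, rfl⟩
  have hπk : ∀ x, π x = 1 → x ∈ N := by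
    intro x hx
    obtain ⟨g, rfl⟩ := QuotientGroup.mk'_surjective M x
    have h1 : (QuotientGroup.mk' K) g = 1 := hx
    rw [QuotientGroup.mk'_apply, QuotientGroup.eq_one_iff] at h1
    exact Subgroup.mem_map_of_mem _ h1
  have hπN : ∀ x ∈ N, π x = 1 := by
    rintro _ ⟨g, hg, rfl⟩
    change (QuotientGroup.mk' K) g = 1
    rw [QuotientGroup.mk'_apply, QuotientGroup.eq_one_iff]
    exact hg
  let X : Subgroup (G ⧸ M) := S.comap π
  let f : X →* S := (π.comp X.subtype).codRestrict S (fun x => x.2)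
  have hf : ∀ x : X, ((f x : S) : G ⧸ K) = π x := fun _ => rfl
  have hfs : Function.Surjective f := by
    rintro ⟨y, hy⟩
    obtain ⟨x, hx⟩ := hπs y
    exact ⟨⟨x, by rw [Subgroup.mem_comap, hx]; exact hy⟩, Subtype.ext hx⟩
  have hker : ∀ x : X, x ∈ f.ker ↔ (x : G ⧸ M) ∈ N := by
    intro x
    rw [MonoidHom.mem_ker, ← Subtype.coe_inj, hf]
    exact ⟨hπk _, hπN _⟩
  refine ⟨M, hMn, X, f.ker, inferInstance, p, hp, ?_, ?_, ?_,
    ⟨QuotientGroup.quotientKerEquivOfSurjective f hfs⟩⟩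
  · subst hWK
    refine isMulCommutative_iff.2 fun x y => Subtype.ext (Subtype.ext ?_)
    have h1 := isMulCommutative_iff.1 hWc ⟨_, (hker x).1 x.2⟩ ⟨_, (hker y).1 y.2⟩
    exact congrArg (fun z : N => (z : G ⧸ M)) h1
  · intro x hx
    rw [hWK] at hWp
    exact Subtype.ext (hWp _ ((hker x).1 hx))
  · intro h
    obtain ⟨⟨w, hw⟩, hw1⟩ := (Subgroup.ne_bot_iff_exists_ne_one).1 hN1
    have hwX : w ∈ X := by
      rw [Subgroup.mem_comap, hπN _ hw]
      exact S.one_mem
    have h1 : (⟨w, hwX⟩ : X) ∈ f.ker := (hker _).2 hw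
    rw [h, Subgroup.mem_bot] at h1
    exact hw1 (Subtype.ext (congrArg (fun z : X => (z : G ⧸ M)) h1))

/-- `S` as a factor of a normal subgroup of `G` -/
theorem exists_factor {K : Subgroup G} [K.Normal] (S : Subgroup (G ⧸ K)) [S.Normal] :
    ∃ (H : Subgroup G) (_ : H.Normal) (N : Subgroup H) (_ : N.Normal), Nonempty (H ⧸ N ≃* S) := by
  let X : Subgroup G := S.comap (QuotientGroup.mk' K)
  let f : X →* S := ((QuotientGroup.mk' K).comp X.subtype).codRestrict S (fun x => x.2)
  have hfs : Function.Surjective f := by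
    rintro ⟨y, hy⟩
    obtain ⟨x, hx⟩ := QuotientGroup.mk'_surjective K y
    exact ⟨⟨x, by rw [Subgroup.mem_comap, hx]; exact hy⟩, Subtype.ext hx⟩
  exact ⟨X, inferInstance, f.ker, inferInstance, ⟨QuotientGroup.quotientKerEquivOfSurjective f hfs⟩⟩

/-- **The end of the recognition.** -/
theorem finish (hω : ∀ x : G, ∃ y : L, orderOf y = orderOf x) {K : Subgroup G} [K.Normal] (hs : Group.IsSolvable K)
    {S : Subgroup (G ⧸ K)} [S.Normal] (hC : centralizer (S : Set (G ⧸ K)) = ⊥) (e : S ≃* L)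
    (hcover : ∀ (X : Type u) [Group X] [Finite X] (V : Subgroup X) [V.Normal] (p : ℕ), p.Prime →
      IsMulCommutative V → (∀ v ∈ V, v ^ p = 1) → V ≠ ⊥ → (X ⧸ V ≃* L) → (∀ x : X, ∃ y : L, orderOf y = orderOf x) →
      False)
    (hauto : ∀ (X : Type u) [Group X] [Finite X] (S : Subgroup X) [S.Normal], (S ≃* L) →
      centralizer (S : Set X) = ⊥ → (∀ x : X, ∃ y : L, orderOf y = orderOf x) → S = ⊤) : Nonempty (G ≃* L) := by
  have hS := hauto (G ⧸ K) S e hC (spec_quot hω K)
  have hK : K = ⊥ := by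
    by_contra hK
    obtain ⟨M, hM, X, V, hV, p, hp, hVc, hVp, hV1, ⟨e'⟩⟩ := exists_section hs hK S
    exact hcover X V p hp hVc hVp hV1 (e'.trans e) (spec_sub (spec_quot hω M) X)
  subst hK
  subst hS
  exact ⟨QuotientGroup.quotientBot.symm.trans (Subgroup.topEquiv.symm.trans e)⟩

end Cfsg.Agent.H414.SpecFrame
end

-- part: H366/X/Frame
section
set_option linter.all false
open scoped Cfsg.Agent.FastGrp

/-!
# The frame of a group with two coprime isolated numbers (helper366, S3483)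
-/

set_option autoImplicit false

namespace Cfsg.Agent.H366.X

open Cfsg Cfsg.Agent.H414.Vasiliev Cfsg.Agent.H414.Comp Subgroup

universe u

section
variable {G : Type u} [Group G] [Finite G]

/-- the solvable radical -/
theorem exists_rad (G : Type u) [Group G] [Finite G] : ∃ (K : Subgroup G) (_ : K.Normal), Group.IsSolvable ↥K ∧
    ∀ M : Subgroup G, M.Normal → Group.IsSolvable ↥M → M ≤ K := by
  classical
  obtain ⟨K, hK1, hK2⟩ := Set.Finite.exists_maximalFor (fun K : Subgroup G => Nat.card K)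
    {K : Subgroup G | K.Normal ∧ Group.IsSolvable ↥K} (Set.toFinite _)
    ⟨⊥, inferInstance, inferInstance⟩
  obtain ⟨hKn, hKs⟩ := hK1
  refine ⟨K, hKn, hKs, fun M hM hMs => ?_⟩
  have h1 : (K ⊔ M).Normal := Subgroup.sup_normal K M
  have h2 : Group.IsSolvable ↥(K ⊔ M) := by
    have hs1 : Group.IsSolvable ↥(M.subgroupOf (K ⊔ M)) :=
      Group.isSolvable_of_isSolvable_injective (f := (Subgroup.subgroupOfEquivOfLe (le_sup_right : M ≤ K ⊔ M)).toMonoidHom)
        (Subgroup.subgroupOfEquivOfLe (le_sup_right : M ≤ K ⊔ M)).injective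
    have hs2 : Group.IsSolvable (↥(K ⊔ M) ⧸ M.subgroupOf (K ⊔ M)) := by
      let e := QuotientGroup.quotientInfEquivProdNormalQuotient K M
      exact Group.isSolvable_of_surjective (f := e.toMonoidHom) e.surjective
    exact Group.isSolvable_of_ker_le_range (M.subgroupOf (K ⊔ M)).subtype (QuotientGroup.mk' (M.subgroupOf (K ⊔ M)))
      (by rw [QuotientGroup.ker_mk', Subgroup.range_subtype])
  have h3 : Nat.card ↥(K ⊔ M) ≤ Nat.card K := by
    by_contra hcon
    exact hcon (hK2 ⟨h1, h2⟩ (not_le.1 hcon).le)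
  have h4 : K = K ⊔ M := Subgroup.eq_of_le_of_card_ge le_sup_left h3
  rw [h4]
  exact le_sup_right

omit [Finite G] in
theorem Iz.dvd {n : ℕ} (h : Iz G n) {r : ℕ} (hr : r ∣ n) : r ∣ Nat.card G := by
  obtain ⟨x, hx⟩ := h.elt
  exact hr.trans (hx ▸ orderOf_dvd_natCard x)

omit [Finite G] in
theorem coc {n m : ℕ} (h0 : ∃ x : G, orderOf x = 2) (h1 : Iz G n) (h2 : Iz G m) (hc : Nat.Coprime n m) {p s : ℕ}
    (hp : p.Prime) (hs : s.Prime) (hpn : p ∣ n) (hsm : s ∣ m) : Coc G {2, p, s} ∧ p ≠ 2 ∧ s ≠ 2 ∧ p ≠ s := by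
  have hp2 : p ≠ 2 := by rintro rfl; exact h1.not_two_dvd hpn
  have hs2 : s ≠ 2 := by rintro rfl; exact h2.not_two_dvd hsm
  have hps : p ≠ s := by
    rintro rfl
    exact hp.one_lt.ne' (Nat.dvd_one.1 (hc ▸ Nat.dvd_gcd hpn hsm))
  have key : ∀ {a b k : ℕ}, Iz G k → a.Prime → a ∣ k → ¬ b ∣ k → ¬ ∃ x : G, orderOf x = a * b := by
    rintro a b k hk ha hak hbk ⟨x, hx⟩
    exact hbk ((Dvd.intro_left a hx.symm).trans (hk.iso x a ha hak (hx ▸ dvd_mul_right a b)))
  have hsn : ¬ s ∣ n := fun h => hs.one_lt.ne' (Nat.dvd_one.1 (hc ▸ Nat.dvd_gcd h hsm))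
  have hpm : ¬ p ∣ m := fun h => hp.one_lt.ne' (Nat.dvd_one.1 (hc ▸ Nat.dvd_gcd hpn h))
  have k1 := key h1 hp hpn h1.not_two_dvd
  have k2 := key h1 hp hpn hsn
  have k3 := key h2 hs hsm h2.not_two_dvd
  have k4 := key h2 hs hsm hpm
  obtain ⟨x0, hx0⟩ := h0
  refine ⟨⟨?_, ?_⟩, hp2, hs2, hps⟩
  · intro r hr
    simp only [Finset.mem_insert, Finset.mem_singleton] at hr
    rcases hr with rfl | rfl | rfl
    · exact ⟨Nat.prime_two, hx0 ▸ orderOf_dvd_natCard x0⟩
    · exact ⟨hp, h1.dvd hpn⟩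
    · exact ⟨hs, h2.dvd hsm⟩
  · intro a ha b hb hab
    simp only [Finset.mem_insert, Finset.mem_singleton] at ha hb
    rcases ha with rfl | rfl | rfl <;> rcases hb with rfl | rfl | rfl
    · exact absurd rfl hab
    · rwa [mul_comm]
    · rwa [mul_comm]
    · exact k1
    · exact absurd rfl hab
    · exact k2
    · exact k3
    · exact k4
    · exact absurd rfl hab

omit [Finite G] in
/-- elements of the socle -/
theorem exists_socle (K : Subgroup G) [K.Normal] (S : Subgroup (G ⧸ K)) [S.Normal] {x : G}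
    (h1 : Nat.Coprime (orderOf x) (Nat.card ↥K)) (h2 : Nat.Coprime (orderOf x) S.index) :
    ∃ s : ↥S, orderOf s = orderOf x := by
  have h3 : orderOf (x : G ⧸ K) = orderOf x := by
    apply Nat.dvd_antisymm (orderOf_map_dvd (QuotientGroup.mk' K) x)
    apply orderOf_dvd_of_pow_eq_one
    set m := orderOf (x : G ⧸ K) with hm
    have h4 : x ^ m ∈ K := by
      rw [← QuotientGroup.eq_one_iff, QuotientGroup.mk_pow, pow_orderOf_eq_one]
    have h5 : orderOf (x ^ m) ∣ Nat.card ↥K := Subgroup.orderOf_dvd_natCard K h4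
    have h6 : orderOf (x ^ m) ∣ orderOf x := orderOf_pow_dvd m
    have h7 : orderOf (x ^ m) ∣ 1 := by rw [← h1]; exact Nat.dvd_gcd h6 h5
    exact orderOf_eq_one_iff.1 (Nat.dvd_one.1 h7)
  have h4 : (x : G ⧸ K) ∈ S := by
    rw [← QuotientGroup.eq_one_iff (N := S)]
    have h5 : orderOf (((x : G ⧸ K) : (G ⧸ K) ⧸ S)) ∣ orderOf x := by
      rw [← h3]
      exact orderOf_map_dvd (QuotientGroup.mk' S) _
    have h6 : orderOf (((x : G ⧸ K) : (G ⧸ K) ⧸ S)) ∣ S.index := by
      rw [Subgroup.index_eq_card]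
      exact orderOf_dvd_natCard _
    have h7 : orderOf (((x : G ⧸ K) : (G ⧸ K) ⧸ S)) ∣ 1 := by rw [← h2]; exact Nat.dvd_gcd h5 h6
    exact orderOf_eq_one_iff.1 (Nat.dvd_one.1 h7)
  exact ⟨⟨_, h4⟩, by rw [← h3, ← Subgroup.orderOf_coe]⟩

end

/-- **The frame of a group with two coprime isolated numbers.** -/
theorem frame : Frm.{u} := by
  intro G _ _ n₁ n₂ h0 h1 h2 hc
  classical
  obtain ⟨p₁, hp₁, hpn₁⟩ := Nat.exists_prime_and_dvd h1.one_lt.ne'
  obtain ⟨p₂, hp₂, hpn₂⟩ := Nat.exists_prime_and_dvd h2.one_lt.ne'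
  obtain ⟨hC, hp₁2, hp₂2, hp₁₂⟩ := coc h0 h1 h2 hc hp₁ hp₂ hpn₁ hpn₂
  have hns : ¬ Group.IsSolvable G := by
    intro hs
    have hs' : Group.IsSolvable ↥(⊤ : Subgroup G) :=
      Group.isSolvable_of_isSolvable_injective (Subgroup.subtype_injective _)
    refine Cfsg.Agent.H395.Coclique.coclique Nat.prime_two hp₁ hp₂ hp₁2.symm hp₂2.symm hp₁₂
      (hC.2 2 (by simp) p₁ (by simp) hp₁2.symm) (hC.2 2 (by simp) p₂ (by simp) hp₂2.symm)
      (hC.2 p₁ (by simp) p₂ (by simp) hp₁₂) ⊤ hs' ?_ ?_ (hC.1 p₂ (by simp)).2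
    · rw [Subgroup.card_top]; exact (hC.1 2 (by simp)).2
    · rw [Subgroup.card_top]; exact (hC.1 p₁ (by simp)).2
  obtain ⟨K, hKn, hK, hKmax⟩ := exists_rad G
  obtain ⟨S, hS, hSn, hSc, -⟩ := Cfsg.Agent.H414.Vasiliev.main hns
    ⟨p₁, hp₁, hp₁2, (hC.1 p₁ (by simp)).2, hC.2 2 (by simp) p₁ (by simp) hp₁2.symm⟩ K hK hKmax
  refine ⟨K, hKn, hK, S, hSn, hS.simple, ?_, hSc, ?_⟩
  · obtain ⟨a, b, hab⟩ := hS.noncomm
    exact fun h => hab (h.is_comm.comm a b)
  · intro n hn
    have hbad : ∀ p : ℕ, p.Prime → p ∣ n → ¬ p ∣ Nat.card ↥K ∧ ¬ p ∣ S.index := by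
      intro p hp hpn
      by_cases hpn1 : p ∣ n₁
      · obtain ⟨hC', h2', h3', h4'⟩ := coc h0 h1 h2 hc hp hp₂ hpn1 hpn₂
        exact Cfsg.Agent.H321.SpecEven.not_dvd K hK S hS hSc h2' h3' h4' hC'
      · have hc' : Nat.Coprime n n₁ := by
          apply Nat.coprime_of_dvd
          intro r hr hrn hrn1
          apply hpn1
          have h5 : n₁ ∣ n := by
            obtain ⟨x, hx⟩ := h1.elt
            rw [← hx]
            exact hn.iso x r hr hrn (hx ▸ hrn1)
          have h6 : n ∣ n₁ := by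
            obtain ⟨x, hx⟩ := hn.elt
            rw [← hx]
            exact h1.iso x r hr hrn1 (hx ▸ hrn)
          exact hpn.trans h6
        obtain ⟨hC', h2', h3', h4'⟩ := coc h0 hn h1 hc' hp hp₁ hpn hpn₁
        exact Cfsg.Agent.H321.SpecEven.not_dvd K hK S hS hSc h2' h3' h4' hC'
    obtain ⟨x, hx⟩ := hn.elt
    obtain ⟨s, hs⟩ := exists_socle K S (x := x)
      (by rw [hx]; exact Nat.coprime_of_dvd fun p hp h4 h5 => (hbad p hp h4).1 h5)
      (by rw [hx]; exact Nat.coprime_of_dvd fun p hp h4 h5 => (hbad p hp h4).2 h5)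
    refine ⟨⟨s, by rw [hs, hx]⟩, ?_, hn.not_two_dvd, hn.one_lt⟩
    intro y r hr hrn hd
    obtain ⟨g, hg⟩ := Cfsg.Agent.H373.Recog.exists_lift K (y : G ⧸ K)
    rw [Subgroup.orderOf_coe] at hg
    rw [← hg] at hd ⊢
    exact hn.iso g r hr hrn hd

end Cfsg.Agent.H366.X
end
end
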