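import Cfsg.Agent.H378.RegE7
import Cfsg.Agent.H371.AlgLemma_m3
import Cfsg.Agent.H416.Arith
import Cfsg.Agent.Prune
set_option linter.all false

section
prune_inst 0x7f00000000000000000000000000000000000000000000000000000000000000000000000000000000000000000000000000000000000000000000000000000000000000000000000000000000000000003fffffffffffffffffffffffffffbeffbdffffffff

-- part: H437/Iso/Untw
section
set_option linter.all false
open scoped Cfsg.Agent.FastGrp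

-- part: H437/Iso/Tab
section
/-!
# Cyclic maximal tori of `G₂`, `F₄`: explicit eigenvectors (helper437)
-/

set_option autoImplicit false

namespace Cfsg.Agent.H437.Iso

open Cfsg.Agent.H129.WData Cfsg.Agent.H378.AdjTab Cfsg.Agent.H378.CycTab Cfsg.Agent.H493.PGTorus
open Cfsg.Agent.ChevalleyStructure.CoxeterGeomTypes Cfsg.Agent.Nodes.RGDChev
open Cfsg.Lie Cfsg.Lie.ChevalleyDatum

/-- the partial products -/
def LG2a : List (Fin 2 × Mat 2) := [
    (0, ![![-1, 0],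
        ![3, 1]])]

/-- the eigenvector -/
def VG2a : Fin (1 + 1) → Fin 2 → ℤ := ![![-2, -1],
      ![-1, -1]]

/-- the functional -/
def UG2a : Fin 2 → ℤ := ![-1, 1]

/-- the polynomial -/
def kG2a : Fin (1 + 1) → ℤ := ![-1, 0]

theorem chainG2a : ChainOK H378.AdjG2.Am LG2a := by decide +kernel

theorem eigG2a : EigOK (hd LG2a) kG2a VG2a UG2a := by decide +kernel

theorem pvG2a (q : ℤ) : pv kG2a q = q ^ 2 - 1 := by
  simp [pv, kG2a, Fin.sum_univ_succ]
  try ring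

/-- the partial products -/
def LF4a : List (Fin 4 × Mat 4) := [
    (3, ![![-1, -1, 0, 0],
        ![1, 0, 0, 0],
        ![0, 2, 1, 1],
        ![0, 0, 0, -1]]),
    (1, ![![-1, -1, 0, 0],
        ![1, 0, 0, 0],
        ![0, 2, 1, 0],
        ![0, 0, 0, 1]]),
    (0, ![![-1, 0, 0, 0],
        ![1, 1, 0, 0],
        ![0, 0, 1, 0],
        ![0, 0, 0, 1]])]

/-- the eigenvector -/
def VF4a : Fin (3 + 1) → Fin 4 → ℤ := ![![-1, -2, -1, 0],
      ![-1, -3, -2, -1],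
      ![-1, -2, -2, -1],
      ![-1, -1, -1, -1]]

/-- the functional -/
def UF4a : Fin 4 → ℤ := ![-1, 0, 0, 1]

/-- the polynomial -/
def kF4a : Fin (3 + 1) → ℤ := ![-1, -1, 0, 1]

theorem chainF4a : ChainOK H378.AdjF4.Am LF4a := by decide +kernel

theorem eigF4a : EigOK (hd LF4a) kF4a VF4a UF4a := by decide +kernel

theorem pvF4a (q : ℤ) : pv kF4a q = (q ^ 3 - 1) * (q + 1) := by
  simp [pv, kF4a, Fin.sum_univ_succ]
  ring

/-- the partial products -/
def LF4b : List (Fin 4 × Mat 4) := [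
    (2, ![![-1, -1, -1, 0],
        ![1, 0, 0, 0],
        ![0, 2, 1, 0],
        ![0, 0, 1, 1]]),
    (1, ![![-1, -1, 0, 0],
        ![1, 0, 0, 0],
        ![0, 2, 1, 0],
        ![0, 0, 0, 1]]),
    (0, ![![-1, 0, 0, 0],
        ![1, 1, 0, 0],
        ![0, 0, 1, 0],
        ![0, 0, 0, 1]])]

/-- the eigenvector -/
def VF4b : Fin (3 + 1) → Fin 4 → ℤ := ![![-1, -1, -1, -1],
      ![0, -1, 0, 0],
      ![-1, -1, -1, 0],
      ![0, -1, -1, -1]]

/-- the functional -/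
def UF4b : Fin 4 → ℤ := ![-1, 0, 1, -1]

/-- the polynomial -/
def kF4b : Fin (3 + 1) → ℤ := ![-1, 1, 0, -1]

theorem chainF4b : ChainOK H378.AdjF4.Am LF4b := by decide +kernel

theorem eigF4b : EigOK (hd LF4b) kF4b VF4b UF4b := by decide +kernel

theorem pvF4b (q : ℤ) : pv kF4b q = (q ^ 3 + 1) * (q - 1) := by
  simp [pv, kF4b, Fin.sum_univ_succ]
  ring

end Cfsg.Agent.H437.Iso
end

-- part: H437/Iso/Untw
section
/-!
# Isolated numbers of `G₂(u)`, `F₄(u)` (helper437)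

* `g2_row`: `n = u² + u + 1` or `n = u² - u + 1`; all three orders `u² ± u + 1`, `u² - 1` occur;
* `f4_row`: `n = u⁴ - u² + 1`, or `u` is even and `n = u⁴ + 1`; the orders `u⁴ - u² + 1`, `u⁴ + 1`, `(u³ - 1)(u + 1)`,
  `(u³ + 1)(u - 1)` occur.
-/

set_option autoImplicit false

namespace Cfsg.Agent.H437.Iso

open CoxeterSystem Cfsg Cfsg.Lie Cfsg.Lie.ChevalleyDatum
open Cfsg.Agent.ChevalleyStructure.CoxeterGeomTypes
open Cfsg.Agent.BpExc.FamInst Cfsg.Agent.BpExc.RowsUntw Cfsg.Agent.Nodes.RGDChev Cfsg.Agent.BpExc.FamExt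
open Cfsg.Agent.H378.AdjTab Cfsg.Agent.H378.CycTab Cfsg.Agent.H378.ExcAdj Cfsg.Agent.H378.ExcNear
open Cfsg.Agent.H493.PGTorus Cfsg.Agent.H129.WData Cfsg.Agent.H360.Iso

universe u

/-- an element of order `m` in a cyclic torus, `d = 1` -/
theorem exists_order_one {D : ChevalleyDatum} {l : ℕ} {M : CoxeterMatrix (Fin l)} (hp : IsType D l M)
    {W : Type*} [Group W] [Finite W] (cs : CoxeterSystem M W)
    {B : Fin l → Fin l → ℤ} (hB : InvC D l 1 B) {A : Mat l}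
    (hA : ∀ i j, A i j = cartanOf D l i j) {L : List (Fin l × Mat l)} (hL : ChainOK A L)
    {f : ℕ} {c : Fin (f + 1) → ℤ} {V : Fin (f + 1) → Fin l → ℤ} {U : Fin l → ℤ} (h : EigOK (hd L) c V U)
    {F : Type u} [Field F] [Finite F] {m : ℕ} (hm : 0 < m) (hdv : (m : ℤ) ∣ pv c (Nat.card F : ℕ)) :
    ∃ x : ↥(D.group F), orderOf x = m := by
  obtain ⟨x, -, -, h1, -⟩ := exists_comm_torus hp cs hB one_ne_zero hA hL h h (F := F) hm hm hdv hdv
  rw [Nat.gcd_one_left, mul_one] at h1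
  exact exists_order ⟨x, h1⟩

/-- the isolated number is the whole torus -/
theorem eq_of_cent {T : Type*} [Group T] [Finite T] {n r N : ℕ} (h : IsoN T n) (hr : r.Prime) (hrn : r ∣ n)
    (hc : ∀ x : T, orderOf x = r → Nat.card ↥(Subgroup.centralizer {x}) ∣ N) (hN : ∃ x : T, orderOf x = N)
    (hrN : r ∣ N) : n = N := by
  apply Nat.dvd_antisymm
  · obtain ⟨g, hg⟩ := h.elt
    obtain ⟨k, hk⟩ := hrn
    have hn0 : 0 < n := by have := h.big; omega
    have hk0 : k ≠ 0 := by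
      rintro rfl
      omega
    have h1 : orderOf (g ^ k) = r := by
      rw [orderOf_pow_of_dvd hk0 (by rw [hg, hk]; exact dvd_mul_left _ _), hg, hk, Nat.mul_div_cancel _ (Nat.pos_of_ne_zero hk0)]
    have h2 := hc _ h1
    have h3 : g ∈ Subgroup.centralizer {g ^ k} := by
      rw [Subgroup.mem_centralizer_singleton_iff]
      exact (Commute.self_pow g k).eq
    have h4 : orderOf (⟨g, h3⟩ : ↥(Subgroup.centralizer {g ^ k})) ∣ Nat.card ↥(Subgroup.centralizer {g ^ k}) :=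
      orderOf_dvd_natCard _
    rw [Subgroup.orderOf_mk, hg] at h4
    exact h4.trans h2
  · exact h.dvd_of_elt hN hr hrn hrN

theorem eval_cyc3 (q : ℤ) : (Polynomial.cyclotomic 3 ℤ).eval q = q ^ 2 + q + 1 := by
  rw [Polynomial.cyclotomic_three]; simp

theorem eval_cyc6 (q : ℤ) : (Polynomial.cyclotomic 6 ℤ).eval q = q ^ 2 - q + 1 := by
  rw [Polynomial.cyclotomic_six]; simp

theorem eval_cyc8 (q : ℤ) : (Polynomial.cyclotomic 8 ℤ).eval q = q ^ 4 + 1 := by
  have h := Polynomial.cyclotomic_prime_pow_eq_geom_sum (R := ℤ) Nat.prime_two (n := 2)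
  rw [show 2 ^ (2 + 1) = 8 from rfl] at h
  rw [h]
  simp [Finset.sum_range_succ, Polynomial.eval_add, Polynomial.eval_pow]
  ring

theorem eval_cyc12 (q : ℤ) : (Polynomial.cyclotomic 12 ℤ).eval q = q ^ 4 - q ^ 2 + 1 := by
  have h := Polynomial.cyclotomic_expand_eq_cyclotomic Nat.prime_two (show 2 ∣ 6 by norm_num) ℤ
  rw [show 6 * 2 = 12 from rfl, Polynomial.cyclotomic_six] at h
  rw [← h, Polynomial.expand_eval]
  simp
  ring

section GTwo

variable {F : Type u} [Field F] [Finite F]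

theorem g2_order3 : ∃ x : ↥(chevG2.group F), orderOf x = Nat.card F ^ 2 + Nat.card F + 1 := by
  let cs : CoxeterSystem CoxeterMatrix.G₂ CoxeterMatrix.G₂.Group := CoxeterMatrix.G₂.toCoxeterSystem
  have := finite_W g2T cs
  refine exists_order_one g2T cs inv_G2 H378.AdjG2.hA H378.AdjG2.chain3 H378.AdjG2.tor3_3 (by positivity) ?_
  rw [pv3]
  push_cast
  exact dvd_rfl

theorem g2_order6 : ∃ x : ↥(chevG2.group F), orderOf x = Nat.card F ^ 2 - Nat.card F + 1 := by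
  let cs : CoxeterSystem CoxeterMatrix.G₂ CoxeterMatrix.G₂.Group := CoxeterMatrix.G₂.toCoxeterSystem
  have := finite_W g2T cs
  refine exists_order_one g2T cs inv_G2 H378.AdjG2.hA H378.AdjG2.chain6 H378.AdjG2.tor6_6 (by omega) ?_
  rw [pv6]
  have h1 : Nat.card F ≤ Nat.card F ^ 2 := Nat.le_self_pow two_ne_zero _
  push_cast [h1]
  exact dvd_rfl

theorem g2_order1 : ∃ x : ↥(chevG2.group F), orderOf x = Nat.card F ^ 2 - 1 := by
  let cs : CoxeterSystem CoxeterMatrix.G₂ CoxeterMatrix.G₂.Group := CoxeterMatrix.G₂.toCoxeterSystem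
  have := finite_W g2T cs
  have h2 : 1 < Nat.card F := Finite.one_lt_card
  have h3 : 1 < Nat.card F ^ 2 := Nat.one_lt_pow two_ne_zero h2
  refine exists_order_one g2T cs inv_G2 H378.AdjG2.hA chainG2a eigG2a (by omega) ?_
  rw [pvG2a]
  have h1 : 1 ≤ Nat.card F ^ 2 := h3.le
  push_cast [h1]
  exact dvd_rfl

theorem g2_cast6 (u : ℕ) : ((u ^ 2 - u + 1 : ℕ) : ℤ) = (u : ℤ) ^ 2 - u + 1 := by
  have h3 : u ≤ u ^ 2 := Nat.le_self_pow two_ne_zero _
  push_cast [h3]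
  rfl

/-- **`G₂(u)`.** -/
theorem g2_row {n : ℕ} (h : IsoN ↥(chevG2.group F) n) :
    n = Nat.card F ^ 2 + Nat.card F + 1 ∨ n = Nat.card F ^ 2 - Nat.card F + 1 := by
  obtain ⟨r, hr, hrn⟩ := h.exists_prime
  rcases near_G2 F hr (h.prime_dvd_card hrn) with h1 | h1 | h1
  · exact absurd h1 (h.not_near hrn)
  · left
    refine eq_of_cent h hr hrn (fun x hx => ?_) g2_order3 ?_
    · have h2 := (H378.RegFin.cent_od g2T inv_G2 one_ne_zero hr hx h1 (by decide) (by norm_num)).2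
      rw [eval_cyc3, show ((Nat.card F : ℕ) : ℤ) ^ 2 + ((Nat.card F : ℕ) : ℤ) + 1 = ((Nat.card F ^ 2 + Nat.card F + 1 : ℕ) : ℤ) by
        push_cast; rfl, Int.natAbs_natCast] at h2
      exact h2
    · have h2 := dvd3 hr h1
      rw [pv3] at h2
      exact_mod_cast h2
  · right
    refine eq_of_cent h hr hrn (fun x hx => ?_) g2_order6 ?_
    · have h2 := (H378.RegFin.cent_od g2T inv_G2 one_ne_zero hr hx h1 (by decide) (by norm_num)).2
      rw [eval_cyc6, ← g2_cast6, Int.natAbs_natCast] at h2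
      exact h2
    · have h2 := dvd6 hr h1
      rw [pv6, ← g2_cast6] at h2
      exact_mod_cast h2

end GTwo

section FFour

variable {F : Type u} [Field F] [Finite F]

theorem f4_cast12 (u : ℕ) : ((u ^ 4 - u ^ 2 + 1 : ℕ) : ℤ) = (u : ℤ) ^ 4 - u ^ 2 + 1 := by
  have h3 : u ^ 2 ≤ u ^ 4 := by
    rcases Nat.eq_zero_or_pos u with rfl | h
    · norm_num
    · exact Nat.pow_le_pow_right h (by norm_num)
  push_cast [h3]
  rfl

theorem f4_order8 : ∃ x : ↥(chevF4.group F), orderOf x = Nat.card F ^ 4 + 1 := by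
  let cs : CoxeterSystem CoxeterMatrix.F₄ CoxeterMatrix.F₄.Group := CoxeterMatrix.F₄.toCoxeterSystem
  have := finite_W f4T cs
  refine exists_order_one f4T cs inv_F4 H378.AdjF4.hA H378.AdjF4.chain8 H378.AdjF4.tor8_8 (by positivity) ?_
  rw [pv8]
  push_cast
  exact dvd_rfl

theorem f4_order12 : ∃ x : ↥(chevF4.group F), orderOf x = Nat.card F ^ 4 - Nat.card F ^ 2 + 1 := by
  let cs : CoxeterSystem CoxeterMatrix.F₄ CoxeterMatrix.F₄.Group := CoxeterMatrix.F₄.toCoxeterSystem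
  have := finite_W f4T cs
  refine exists_order_one f4T cs inv_F4 H378.AdjF4.hA H378.AdjF4.chain12 H378.AdjF4.tor12_12 (by omega) ?_
  rw [pv12, ← f4_cast12]

theorem f4_orderA : ∃ x : ↥(chevF4.group F), orderOf x = (Nat.card F ^ 3 - 1) * (Nat.card F + 1) := by
  let cs : CoxeterSystem CoxeterMatrix.F₄ CoxeterMatrix.F₄.Group := CoxeterMatrix.F₄.toCoxeterSystem
  have := finite_W f4T cs
  have h2 : 1 < Nat.card F := Finite.one_lt_card
  have h3 : 1 < Nat.card F ^ 3 := Nat.one_lt_pow (by norm_num) h2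
  refine exists_order_one f4T cs inv_F4 H378.AdjF4.hA chainF4a eigF4a (Nat.mul_pos (by omega) (by omega)) ?_
  rw [pvF4a]
  have h1 : 1 ≤ Nat.card F ^ 3 := h3.le
  push_cast [h1]
  exact dvd_rfl

theorem f4_orderB : ∃ x : ↥(chevF4.group F), orderOf x = (Nat.card F ^ 3 + 1) * (Nat.card F - 1) := by
  let cs : CoxeterSystem CoxeterMatrix.F₄ CoxeterMatrix.F₄.Group := CoxeterMatrix.F₄.toCoxeterSystem
  have := finite_W f4T cs
  have h2 : 1 < Nat.card F := Finite.one_lt_card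
  refine exists_order_one f4T cs inv_F4 H378.AdjF4.hA chainF4b eigF4b (Nat.mul_pos (by omega) (by omega)) ?_
  rw [pvF4b]
  push_cast [h2.le]
  exact dvd_rfl

/-- **`F₄(u)`.** -/
theorem f4_row {n : ℕ} (h : IsoN ↥(chevF4.group F) n) :
    n = Nat.card F ^ 4 - Nat.card F ^ 2 + 1 ∨ (Even (Nat.card F) ∧ n = Nat.card F ^ 4 + 1) := by
  obtain ⟨r, hr, hrn⟩ := h.exists_prime
  rcases near_F4 F hr (h.prime_dvd_card hrn) with h1 | h1 | h1
  · exact absurd h1 (h.not_near hrn)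
  · right
    have h3 : n = Nat.card F ^ 4 + 1 := by
      refine eq_of_cent h hr hrn (fun x hx => ?_) f4_order8 ?_
      · have h2 := (H378.RegFin.cent_od f4T inv_F4 one_ne_zero hr hx h1 (by decide) (by norm_num)).2
        rw [eval_cyc8, show ((Nat.card F : ℕ) : ℤ) ^ 4 + 1 = ((Nat.card F ^ 4 + 1 : ℕ) : ℤ) by
          push_cast; rfl, Int.natAbs_natCast] at h2
        exact h2
      · have h2 := dvd8 hr h1
        rw [pv8] at h2
        exact_mod_cast h2
    refine ⟨?_, h3⟩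
    by_contra h4
    rw [Nat.not_even_iff_odd] at h4
    apply h.not_two_dvd
    rw [h3]
    exact ((h4.pow).add_odd odd_one).two_dvd
  · left
    refine eq_of_cent h hr hrn (fun x hx => ?_) f4_order12 ?_
    · have h2 := (H378.RegFin.cent_od f4T inv_F4 one_ne_zero hr hx h1 (by decide) (by norm_num)).2
      rw [eval_cyc12, ← f4_cast12, Int.natAbs_natCast] at h2
      exact h2
    · have h2 := dvd12 hr h1
      rw [pv12, ← f4_cast12] at h2
      exact_mod_cast h2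

end FFour

end Cfsg.Agent.H437.Iso
end

private theorem dce_998ef7b84c75 : _root_.True := by
  try have : _root_.True := by simp only [_root_.Cfsg.Agent.H437.Iso.kF4a.eq_1]
  try have : _root_.True := by simp only [_root_.Cfsg.Agent.H437.Iso.kF4b.eq_1]
  try have : _root_.True := by simp only [_root_.Cfsg.Agent.H437.Iso.kG2a.eq_1]
  exact _root_.True.intro
end

-- part: H414/IsoE8
section
set_option linter.all false
open scoped Cfsg.Agent.FastGrp

/-!
# Isolated numbers of `E₈(u)` (helper414)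

* `e8_order15`, `e8_order20`, `e8_order24`, `e8_order30`: elements of order `Φ_m(u)`;
* `e8_row`: an isolated number is one of the four.
-/

set_option autoImplicit false

namespace Cfsg.Agent.H414.Iso

open CoxeterSystem Cfsg Cfsg.Lie Cfsg.Lie.ChevalleyDatum
open Cfsg.Agent.ChevalleyStructure.CoxeterGeomTypes
open Cfsg.Agent.BpExc.FamInst Cfsg.Agent.BpExc.RowsUntw Cfsg.Agent.Nodes.RGDChev Cfsg.Agent.BpExc.FamExt
open Cfsg.Agent.H378.AdjTab Cfsg.Agent.H378.CycTab Cfsg.Agent.H378.ExcAdj Cfsg.Agent.H378.ExcNear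
open Cfsg.Agent.H493.PGTorus Cfsg.Agent.H129.WData Cfsg.Agent.H360.Iso Cfsg.Agent.H437.Iso

universe u

theorem pow_facts {u : ℕ} (hu : 2 ≤ u) : u ≤ u ^ 2 ∧ u ^ 2 ≤ u ^ 3 ∧ u ^ 3 ≤ u ^ 4 ∧ 2 * u ^ 4 ≤ u ^ 5 ∧ u ^ 5 ≤ u ^ 6 ∧
    u ^ 6 ≤ u ^ 7 ∧ u ^ 7 ≤ u ^ 8 := by
  have h : ∀ a b : ℕ, a ≤ b → u ^ a ≤ u ^ b := fun a b hab => Nat.pow_le_pow_right (by omega) hab
  refine ⟨Nat.le_self_pow two_ne_zero _, h _ _ (by norm_num), h _ _ (by norm_num), ?_, h _ _ (by norm_num),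
    h _ _ (by norm_num), h _ _ (by norm_num)⟩
  rw [pow_succ u 4, mul_comm]
  exact Nat.mul_le_mul_left _ hu

theorem cast15 {u : ℕ} (hu : 2 ≤ u) : ((u ^ 8 - u ^ 7 + u ^ 5 - u ^ 4 + u ^ 3 - u + 1 : ℕ) : ℤ) =
    (u : ℤ) ^ 8 - u ^ 7 + u ^ 5 - u ^ 4 + u ^ 3 - u + 1 := by
  obtain ⟨h1, h2, h3, h4, h5, h6, h7⟩ := pow_facts hu
  have c := fun n : ℕ => Nat.cast_pow (α := ℤ) u n
  rw [← c 8, ← c 7, ← c 5, ← c 4, ← c 3]
  omega

theorem cast20 {u : ℕ} (hu : 2 ≤ u) : ((u ^ 8 - u ^ 6 + u ^ 4 - u ^ 2 + 1 : ℕ) : ℤ) =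
    (u : ℤ) ^ 8 - u ^ 6 + u ^ 4 - u ^ 2 + 1 := by
  obtain ⟨h1, h2, h3, h4, h5, h6, h7⟩ := pow_facts hu
  have c := fun n : ℕ => Nat.cast_pow (α := ℤ) u n
  rw [← c 8, ← c 6, ← c 4, ← c 2]
  omega

theorem cast24 {u : ℕ} (hu : 2 ≤ u) : ((u ^ 8 - u ^ 4 + 1 : ℕ) : ℤ) = (u : ℤ) ^ 8 - u ^ 4 + 1 := by
  obtain ⟨h1, h2, h3, h4, h5, h6, h7⟩ := pow_facts hu
  have c := fun n : ℕ => Nat.cast_pow (α := ℤ) u n
  rw [← c 8, ← c 4]
  omega

theorem cast30 {u : ℕ} (hu : 2 ≤ u) : ((u ^ 8 + u ^ 7 - u ^ 5 - u ^ 4 - u ^ 3 + u + 1 : ℕ) : ℤ) =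
    (u : ℤ) ^ 8 + u ^ 7 - u ^ 5 - u ^ 4 - u ^ 3 + u + 1 := by
  obtain ⟨h1, h2, h3, h4, h5, h6, h7⟩ := pow_facts hu
  have c := fun n : ℕ => Nat.cast_pow (α := ℤ) u n
  rw [← c 8, ← c 7, ← c 5, ← c 4, ← c 3]
  omega

variable {F : Type u} [Field F] [Finite F]

theorem e8_order15 : ∃ x : ↥(chevE8.group F), orderOf x =
    Nat.card F ^ 8 - Nat.card F ^ 7 + Nat.card F ^ 5 - Nat.card F ^ 4 + Nat.card F ^ 3 - Nat.card F + 1 := by
  let cs : CoxeterSystem CoxeterMatrix.E₈ CoxeterMatrix.E₈.Group := CoxeterMatrix.E₈.toCoxeterSystem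
  have := finite_W e8T cs
  refine exists_order_one e8T cs inv_E8 H378.AdjE8.hA H378.AdjE8.chain15 H378.AdjE8.tor15_15 (by omega) ?_
  rw [pv15, ← cast15 Finite.one_lt_card]

theorem e8_order20 : ∃ x : ↥(chevE8.group F), orderOf x =
    Nat.card F ^ 8 - Nat.card F ^ 6 + Nat.card F ^ 4 - Nat.card F ^ 2 + 1 := by
  let cs : CoxeterSystem CoxeterMatrix.E₈ CoxeterMatrix.E₈.Group := CoxeterMatrix.E₈.toCoxeterSystem
  have := finite_W e8T cs
  refine exists_order_one e8T cs inv_E8 H378.AdjE8.hA H378.AdjE8.chain20 H378.AdjE8.tor20_20 (by omega) ?_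
  rw [pv20, ← cast20 Finite.one_lt_card]

theorem e8_order24 : ∃ x : ↥(chevE8.group F), orderOf x = Nat.card F ^ 8 - Nat.card F ^ 4 + 1 := by
  let cs : CoxeterSystem CoxeterMatrix.E₈ CoxeterMatrix.E₈.Group := CoxeterMatrix.E₈.toCoxeterSystem
  have := finite_W e8T cs
  refine exists_order_one e8T cs inv_E8 H378.AdjE8.hA H378.AdjE8.chain24 H378.AdjE8.tor24_24 (by omega) ?_
  rw [pv24, ← cast24 Finite.one_lt_card]

theorem e8_order30 : ∃ x : ↥(chevE8.group F), orderOf x =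
    Nat.card F ^ 8 + Nat.card F ^ 7 - Nat.card F ^ 5 - Nat.card F ^ 4 - Nat.card F ^ 3 + Nat.card F + 1 := by
  let cs : CoxeterSystem CoxeterMatrix.E₈ CoxeterMatrix.E₈.Group := CoxeterMatrix.E₈.toCoxeterSystem
  have := finite_W e8T cs
  refine exists_order_one e8T cs inv_E8 H378.AdjE8.hA H378.AdjE8.chain30 H378.AdjE8.tor30_30 (by omega) ?_
  rw [pv30, ← cast30 Finite.one_lt_card]

theorem e8_eval20 (x : ℤ) : (Polynomial.cyclotomic 20 ℤ).eval x = x ^ 8 - x ^ 6 + x ^ 4 - x ^ 2 + 1 := by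
  have h4 : ∀ y : ℤ, (Polynomial.cyclotomic 4 ℤ).eval y = y ^ 2 + 1 := by
    intro y
    rw [show (4 : ℕ) = 2 ^ (1 + 1) by norm_num, Polynomial.cyclotomic_prime_pow_eq_geom_sum Nat.prime_two]
    simp [Finset.sum_range_succ]; ring
  have h := Cfsg.Agent.Lib.Zsigmondy.eval_cyclotomic_mul (r := 5) (m := 4) Nat.prime_five (by norm_num) x
  rw [h4, h4] at h
  have h0 : x ^ 2 + 1 ≠ 0 := by positivity
  apply mul_right_cancel₀ h0
  rw [show (20 : ℕ) = 4 * 5 by norm_num, ← h]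
  ring

/-- **`E₈(u)`.** -/
theorem e8_row {n : ℕ} (h : IsoN ↥(chevE8.group F) n) :
    n = Nat.card F ^ 8 - Nat.card F ^ 7 + Nat.card F ^ 5 - Nat.card F ^ 4 + Nat.card F ^ 3 - Nat.card F + 1 ∨
    n = Nat.card F ^ 8 - Nat.card F ^ 6 + Nat.card F ^ 4 - Nat.card F ^ 2 + 1 ∨
    n = Nat.card F ^ 8 - Nat.card F ^ 4 + 1 ∨
    n = Nat.card F ^ 8 + Nat.card F ^ 7 - Nat.card F ^ 5 - Nat.card F ^ 4 - Nat.card F ^ 3 + Nat.card F + 1 := by
  have hu : 2 ≤ Nat.card F := Finite.one_lt_card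
  obtain ⟨r, hr, hrn⟩ := h.exists_prime
  rcases near_E8 F hr (h.prime_dvd_card hrn) with h1 | h1 | h1 | h1 | h1
  · exact absurd h1 (h.not_near hrn)
  · left
    refine eq_of_cent h hr hrn (fun x hx => ?_) e8_order15 ?_
    · have h2 := (H378.RegFin.cent_od e8T inv_E8 one_ne_zero hr hx h1 (by decide) (by norm_num)).2
      rwa [H416.Arith.eval_15, ← cast15 hu, Int.natAbs_natCast] at h2
    · have h2 := dvd15 hr h1
      rw [pv15, ← cast15 hu] at h2
      exact_mod_cast h2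
  · right; left
    refine eq_of_cent h hr hrn (fun x hx => ?_) e8_order20 ?_
    · have h2 := (H378.RegFin.cent_od e8T inv_E8 one_ne_zero hr hx h1 (by decide) (by norm_num)).2
      rwa [e8_eval20, ← cast20 hu, Int.natAbs_natCast] at h2
    · have h2 := dvd20 hr h1
      rw [pv20, ← cast20 hu] at h2
      exact_mod_cast h2
  · right; right; left
    refine eq_of_cent h hr hrn (fun x hx => ?_) e8_order24 ?_
    · have h2 := (H378.RegFin.cent_od e8T inv_E8 one_ne_zero hr hx h1 (by decide) (by norm_num)).2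
      rwa [H416.Arith.eval_24, ← cast24 hu, Int.natAbs_natCast] at h2
    · have h2 := dvd24 hr h1
      rw [pv24, ← cast24 hu] at h2
      exact_mod_cast h2
  · right; right; right
    refine eq_of_cent h hr hrn (fun x hx => ?_) e8_order30 ?_
    · have h2 := (H378.RegFin.cent_od e8T inv_E8 one_ne_zero hr hx h1 (by decide) (by norm_num)).2
      rwa [H416.Arith.eval_30, ← cast30 hu, Int.natAbs_natCast] at h2
    · have h2 := dvd30 hr h1
      rw [pv30, ← cast30 hu] at h2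
      exact_mod_cast h2

end Cfsg.Agent.H414.Iso
end

-- part: H414/IsoE7
section
set_option linter.all false
open scoped Cfsg.Agent.FastGrp

/-!
# Isolated numbers of `E₇(u)` (helper414)

* `e7_order7`, `e7_order9`: elements of order `Φ₇(u)`, `Φ₉(u)`;
* `e7_row`: an isolated number is `73`, `127` (`u = 2`) or `757`, `1093` (`u = 3`).
-/

set_option autoImplicit false

namespace Cfsg.Agent.H414.Iso

open CoxeterSystem Cfsg Cfsg.Lie Cfsg.Lie.ChevalleyDatum
open Cfsg.Agent.ChevalleyStructure.CoxeterGeomTypes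
open Cfsg.Agent.BpExc.FamInst Cfsg.Agent.BpExc.RowsUntw Cfsg.Agent.Nodes.RGDChev Cfsg.Agent.BpExc.FamExt
open Cfsg.Agent.H378.AdjTab Cfsg.Agent.H378.CycTab Cfsg.Agent.H378.ExcAdj Cfsg.Agent.H378.ExcNear
open Cfsg.Agent.H378.RegE7
open Cfsg.Agent.H493.PGTorus Cfsg.Agent.H129.WData Cfsg.Agent.H360.Iso Cfsg.Agent.H437.Iso

universe u

/-- an element of odd order `m` in a cyclic torus, `d = 2` -/
theorem exists_order_two {D : ChevalleyDatum} {l : ℕ} {M : CoxeterMatrix (Fin l)} (hp : IsType D l M)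
    {W : Type*} [Group W] [Finite W] (cs : CoxeterSystem M W)
    {B : Fin l → Fin l → ℤ} (hB : InvC D l 2 B) {A : Mat l}
    (hA : ∀ i j, A i j = cartanOf D l i j) {L : List (Fin l × Mat l)} (hL : ChainOK A L)
    {f : ℕ} {c : Fin (f + 1) → ℤ} {V : Fin (f + 1) → Fin l → ℤ} {U : Fin l → ℤ} (h : EigOK (hd L) c V U)
    {F : Type u} [Field F] [Finite F] {m : ℕ} (hm : Odd m) (hdv : (m : ℤ) ∣ pv c (Nat.card F : ℕ)) :
    ∃ x : ↥(D.group F), orderOf x = m := by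
  obtain ⟨x, -, -, h1, -⟩ := exists_comm_torus hp cs hB two_ne_zero hA hL h h (F := F) hm.pos hm.pos hdv hdv
  refine exists_order ⟨x, ?_⟩
  refine Nat.Coprime.dvd_of_dvd_mul_right (Nat.Coprime.coprime_dvd_right (Nat.gcd_dvd_left _ _) ?_) h1
  exact Nat.coprime_two_right.2 hm

variable {F : Type u} [Field F] [Finite F]

theorem e7_order7 : ∃ x : ↥(chevE7.group F), orderOf x =
    Nat.card F ^ 6 + Nat.card F ^ 5 + Nat.card F ^ 4 + Nat.card F ^ 3 + Nat.card F ^ 2 + Nat.card F + 1 := by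
  let cs : CoxeterSystem CoxeterMatrix.E₇ CoxeterMatrix.E₇.Group := CoxeterMatrix.E₇.toCoxeterSystem
  have := finite_W e7T cs
  refine exists_order_two e7T cs inv_E7 H378.AdjE7.hA H378.AdjE7.chain7 H378.AdjE7.tor7_7 ?_ ?_
  · refine Even.add_one ?_
    generalize Nat.card F = q
    rw [show q ^ 6 + q ^ 5 + q ^ 4 + q ^ 3 + q ^ 2 + q = q * (q + 1) * (q ^ 4 + q ^ 2 + 1) by ring]
    exact (Nat.even_mul_succ_self q).mul_right _
  · rw [pv7]
    push_cast
    exact dvd_rfl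

theorem e7_order9 : ∃ x : ↥(chevE7.group F), orderOf x = Nat.card F ^ 6 + Nat.card F ^ 3 + 1 := by
  let cs : CoxeterSystem CoxeterMatrix.E₇ CoxeterMatrix.E₇.Group := CoxeterMatrix.E₇.toCoxeterSystem
  have := finite_W e7T cs
  refine exists_order_two e7T cs inv_E7 H378.AdjE7.hA H378.AdjE7.chain9 H378.AdjE7.tor9_9 ?_ ?_
  · refine Even.add_one ?_
    generalize Nat.card F = q
    rw [show q ^ 6 + q ^ 3 = q ^ 3 * (q ^ 3 + 1) by ring]
    exact Nat.even_mul_succ_self _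
  · rw [pv9]
    push_cast
    exact dvd_rfl

/-- the order of `E₇(u)` -/
theorem e7_card : Nat.card ↥(chevE7.group F) ∣ Nat.card F ^ 63 * (Nat.card F ^ 2 - 1) * (Nat.card F ^ 6 - 1) *
    (Nat.card F ^ 8 - 1) * (Nat.card F ^ 10 - 1) * (Nat.card F ^ 12 - 1) * (Nat.card F ^ 14 - 1) *
    (Nat.card F ^ 18 - 1) := by
  have : Fintype F := Fintype.ofFinite F
  have h := Cfsg.Agent.S1064.result (F := F) rfl
  rw [← Nat.card_eq_fintype_card] at h
  rw [← h]
  exact Dvd.intro_left _ rfl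

/-- a number all of whose prime divisors equal `r` and that is not divisible by `r²` -/
theorem eq_of_only {n r : ℕ} (hn : n ≠ 0) (hn1 : n ≠ 1) (h : ∀ s : ℕ, s.Prime → s ∣ n → s = r)
    (h2 : ¬ r ^ 2 ∣ n) : n = r := by
  obtain ⟨s, hs, hsn⟩ := Nat.exists_prime_and_dvd hn1
  have hr := h s hs hsn
  subst hr
  have h3 := Nat.eq_prime_pow_of_unique_prime_dvd hn (p := s) fun {d} hd hdn => h d hd hdn
  rw [h3] at h2 ⊢
  generalize n.primeFactorsList.length = k at *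
  have h4 : k ≠ 0 := by
    rintro rfl
    rw [pow_zero] at h3
    exact hn1 h3
  have h5 : ¬ 2 ≤ k := fun h5 => h2 (pow_dvd_pow s h5)
  have h6 : k = 1 := by omega
  rw [h6, pow_one]

theorem e7_prime {r : ℕ} (hr : r.Prime) (hq : Nat.card F ≤ 3) (h : od (Nat.card F) r = 7 ∨ od (Nat.card F) r = 9) :
    (Nat.card F = 2 ∧ ((od (Nat.card F) r = 7 ∧ r = 127) ∨ (od (Nat.card F) r = 9 ∧ r = 73))) ∨
    (Nat.card F = 3 ∧ ((od (Nat.card F) r = 7 ∧ r = 1093) ∨ (od (Nat.card F) r = 9 ∧ r = 757))) := by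
  have hu : 2 ≤ Nat.card F := Finite.one_lt_card
  have h23 : Nat.card F = 2 ∨ Nat.card F = 3 := by omega
  have n127 : Nat.Prime 127 := by norm_num
  have n73 : Nat.Prime 73 := by norm_num
  have n1093 : Nat.Prime 1093 := by norm_num
  have n757 : Nat.Prime 757 := by norm_num
  rcases h23 with h2 | h2 <;> rw [h2] at h ⊢ <;> rcases h with h | h
  · left
    refine ⟨rfl, Or.inl ⟨h, ?_⟩⟩
    have h3 := dvd7 hr h
    rw [pv7] at h3
    norm_num at h3
    exact (Nat.prime_dvd_prime_iff_eq hr n127).1 (by exact_mod_cast h3)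
  · left
    refine ⟨rfl, Or.inr ⟨h, ?_⟩⟩
    have h3 := dvd9 hr h
    rw [pv9] at h3
    norm_num at h3
    exact (Nat.prime_dvd_prime_iff_eq hr n73).1 (by exact_mod_cast h3)
  · right
    refine ⟨rfl, Or.inl ⟨h, ?_⟩⟩
    have h3 := dvd7 hr h
    rw [pv7] at h3
    norm_num at h3
    exact (Nat.prime_dvd_prime_iff_eq hr n1093).1 (by exact_mod_cast h3)
  · right
    refine ⟨rfl, Or.inr ⟨h, ?_⟩⟩
    have h3 := dvd9 hr h
    rw [pv9] at h3
    norm_num at h3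
    exact (Nat.prime_dvd_prime_iff_eq hr n757).1 (by exact_mod_cast h3)

/-- the primes dividing an isolated number of `E₇(u)` are equal -/
theorem e7_same {n : ℕ} (h : IsoN ↥(chevE7.group F) n) {r s : ℕ} (hr : r.Prime) (hrn : r ∣ n) (hs : s.Prime)
    (hsn : s ∣ n) : od (Nat.card F) s = od (Nat.card F) r := by
  let cs : CoxeterSystem CoxeterMatrix.E₇ CoxeterMatrix.E₇.Group := CoxeterMatrix.E₇.toCoxeterSystem
  have := finite_W e7T cs
  have key : ∀ {r : ℕ}, r.Prime → r ∣ n → od (Nat.card F) r = 7 ∨ od (Nat.card F) r = 9 := fun {r} hr hrn =>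
    ((near_E7 F hr (h.prime_dvd_card hrn)).resolve_left (h.not_near hrn)).2
  have hW : ∀ {s m : ℕ}, s.Prime → od (Nat.card F) s = m → 7 ≤ m → ¬ s ∣ Nat.card CoxeterMatrix.E₇.Group := by
    intro s m hs hm h7 h1
    have h3 := Cfsg.Agent.H378.LatCodim.le_of_dvd_card cs e7T.isCartan hs h1
    have h4 := mod_of_od hs hm (by omega)
    have h5 := hs.two_le
    have h6 := Nat.le_of_dvd (by omega) h4
    have h8 : s = 8 := by omega
    rw [h8] at hs
    exact absurd hs (by norm_num)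
  have hn0 : n ≠ 0 := by have := h.big; omega
  obtain ⟨g, hg⟩ := h.elt
  obtain ⟨k, hk⟩ := hrn
  obtain ⟨j, hj⟩ := hsn
  have hk0 : k ≠ 0 := by rintro rfl; omega
  have hj0 : j ≠ 0 := by rintro rfl; omega
  have h1 : orderOf (g ^ k) = r := by
    rw [orderOf_pow_of_dvd hk0 (by rw [hg, hk]; exact dvd_mul_left _ _), hg, hk,
      Nat.mul_div_cancel _ (Nat.pos_of_ne_zero hk0)]
  have h2 : orderOf (g ^ j) = s := by
    rw [orderOf_pow_of_dvd hj0 (by rw [hg, hj]; exact dvd_mul_left _ _), hg, hj,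
      Nat.mul_div_cancel _ (Nat.pos_of_ne_zero hj0)]
  have hr7 := key hr ⟨k, hk⟩
  have hs7 := key hs ⟨j, hj⟩
  obtain ⟨w, hE, φ, hφ⟩ := cent_E7 hr h1 rfl (by tauto) cs
  have hc : g ^ j ∈ Subgroup.centralizer {g ^ k} :=
    Subgroup.mem_centralizer_singleton_iff.2 ((Commute.refl g).pow_pow j k).eq
  have key2 := od_of_cent e7T cs hr (hW hr rfl (by omega)) rfl (by omega) hE hφ (y := ⟨g ^ j, hc⟩) hs
    (by rw [Subgroup.orderOf_mk, h2]) (hW hs rfl (by omega)) rfl (by omega)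
  rcases key2 with h3 | h3
  · exact h3
  · exfalso
    have t7 : Nat.totient 7 = 6 := by decide
    have t9 : Nat.totient 9 = 6 := by decide
    rcases hr7 with h5 | h5 <;> rcases hs7 with h6 | h6 <;> rw [h5, h6] at h3 <;> omega

/-- **`E₇(u)`.** -/
theorem e7_row {n : ℕ} (h : IsoN ↥(chevE7.group F) n) :
    (Nat.card F = 2 ∧ (n = 73 ∨ n = 127)) ∨ (Nat.card F = 3 ∧ (n = 757 ∨ n = 1093)) := by
  have hbig := h.big
  obtain ⟨r, hr, hrn⟩ := h.exists_prime
  have key : ∀ {s : ℕ}, s.Prime → s ∣ n → Nat.card F ≤ 3 ∧ (od (Nat.card F) s = 7 ∨ od (Nat.card F) s = 9) :=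
    fun {s} hs hsn => (near_E7 F hs (h.prime_dvd_card hsn)).resolve_left (h.not_near hsn)
  have hall : ∀ s : ℕ, s.Prime → s ∣ n → s = r := by
    intro s hs hsn
    have h1 := e7_same h hr hrn hs hsn
    rcases e7_prime hr (key hr hrn).1 (key hr hrn).2 with ⟨h2, h3⟩ | ⟨h2, h3⟩ <;>
      rcases e7_prime hs (key hs hsn).1 (key hs hsn).2 with ⟨h4, h5⟩ | ⟨h4, h5⟩ <;> omega
  have hcard := (h.dvd_card).trans (e7_card (F := F))
  have hsq : ¬ r ^ 2 ∣ n := by
    intro h1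
    have h2 := h1.trans hcard
    rcases e7_prime hr (key hr hrn).1 (key hr hrn).2 with ⟨h3, ⟨-, h4⟩ | ⟨-, h4⟩⟩ | ⟨h3, ⟨-, h4⟩ | ⟨-, h4⟩⟩ <;>
      rw [h3, h4] at h2 <;> revert h2 <;> norm_num
  have hn := eq_of_only (by omega) (by omega) hall hsq
  rcases e7_prime hr (key hr hrn).1 (key hr hrn).2 with ⟨h3, ⟨-, h4⟩ | ⟨-, h4⟩⟩ | ⟨h3, ⟨-, h4⟩ | ⟨-, h4⟩⟩
  · exact Or.inl ⟨h3, Or.inr (hn.trans h4)⟩
  · exact Or.inl ⟨h3, Or.inl (hn.trans h4)⟩
  · exact Or.inr ⟨h3, Or.inr (hn.trans h4)⟩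
  · exact Or.inr ⟨h3, Or.inl (hn.trans h4)⟩

end Cfsg.Agent.H414.Iso
end
end
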