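import Mathlib
import Cfsg.Agent.FastGrp
import Cfsg.Agent.Prune
set_option linter.all false
prune_inst 0x7f00000000000000000000000000000000000000000000000000000000000000000000000000000000000000000000000000000000000000000000000000000000000000000000000000000000000000003fffffffffffffffffffffffffffbeffbdffffffff
open scoped Cfsg.Agent.FastGrp

/-!
# Prime graph adjacency: basic facts (helper414)

* `exists_order_of_dvd`, `exists_order_subgroup`, `exists_order_quot`, `exists_order_surj` : element orders of subgroups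
  and quotients;
* `exists_order_mul_of_commute` : commuting elements of distinct prime orders;
* `exists_two_mul_of_cent` : an involution with centralizer not contained in a normal subgroup of prime index `p ≠ 2`
  gives an element of order `2 p`;
* `exists_two_mul_of_swap` : `D ≤ H`, `g ∉ D`, `g² ∈ D`, `g` normalises `D`, `D` not contained in a normal subgroup `S` of
  odd prime index `p`: there is an element of order `2 p`.
-/

set_option autoImplicit false

namespace Cfsg.Agent.H414.Adj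

open Subgroup

variable {G : Type*} [Group G]

theorem exists_order_of_dvd [Finite G] {x : G} {n : ℕ} (h : n ∣ orderOf x) (_hn : n ≠ 0) : ∃ y ∈ zpowers x, orderOf y = n := by
  obtain ⟨m, hm⟩ := h
  have hx : 0 < orderOf x := orderOf_pos x
  have hm0 : m ≠ 0 := by
    rintro rfl
    rw [hm, mul_zero] at hx
    exact lt_irrefl _ hx
  refine ⟨x ^ m, pow_mem (mem_zpowers x) m, ?_⟩
  rw [orderOf_pow_of_dvd hm0 ⟨n, by rw [hm, mul_comm]⟩, hm, Nat.mul_div_cancel _ (Nat.pos_of_ne_zero hm0)]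

theorem exists_order_subgroup {H : Subgroup G} {n : ℕ} (h : ∃ x : ↥H, orderOf x = n) : ∃ x : G, orderOf x = n := by
  obtain ⟨x, hx⟩ := h
  exact ⟨x, by rw [Subgroup.orderOf_coe, hx]⟩

theorem exists_order_surj {Q : Type*} [Group Q] [Finite G] (f : G →* Q) {n : ℕ} (hn : n ≠ 0)
    (h : ∃ x ∈ f.range, orderOf x = n) : ∃ x : G, orderOf x = n := by
  obtain ⟨_, ⟨x, rfl⟩, hx⟩ := h
  have h1 : n ∣ orderOf x := hx ▸ orderOf_map_dvd f x
  obtain ⟨y, -, hy⟩ := exists_order_of_dvd h1 hn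
  exact ⟨y, hy⟩

theorem exists_order_quot [Finite G] (N : Subgroup G) [N.Normal] {n : ℕ} (hn : n ≠ 0)
    (h : ∃ x : G ⧸ N, orderOf x = n) : ∃ x : G, orderOf x = n := by
  obtain ⟨x, hx⟩ := h
  obtain ⟨y, rfl⟩ := QuotientGroup.mk'_surjective N x
  exact exists_order_surj (QuotientGroup.mk' N) hn ⟨_, ⟨y, rfl⟩, hx⟩

/-- Commuting elements of distinct prime orders. -/
theorem exists_order_mul_of_commute {p q : ℕ} (hp : p.Prime) (hq : q.Prime) (hpq : p ≠ q) {x y : G}
    (hx : orderOf x = p) (hy : orderOf y = q) (h : Commute x y) : ∃ z : G, orderOf z = p * q := by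
  refine ⟨x * y, ?_⟩
  rw [h.orderOf_mul_eq_mul_orderOf_of_coprime (by rw [hx, hy]; exact (Nat.coprime_primes hp hq).2 hpq), hx, hy]

/-- An element `x` of order `p` centralising a subgroup of order divisible by `q`. -/
theorem exists_order_mul_of_dvd_centralizer [Finite G] {p q : ℕ} (hp : p.Prime) (hq : q.Prime) (hpq : p ≠ q) {x : G}
    (hx : orderOf x = p) (H : Subgroup G) (hH : ∀ h ∈ H, Commute x h) (hd : q ∣ Nat.card ↥H) :
    ∃ z : G, orderOf z = p * q := by
  have := Fact.mk hq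
  obtain ⟨y, hy⟩ := exists_prime_orderOf_dvd_card' q hd
  exact exists_order_mul_of_commute hp hq hpq hx (by rw [Subgroup.orderOf_coe, hy]) (hH y y.2)

section index

set_option linter.unusedSectionVars false

variable [Finite G] {p : ℕ} (hp : p.Prime) (S : Subgroup G) [S.Normal] (hidx : S.index = p)

include hp hidx

/-- Elements outside a normal subgroup of prime index `p` have order divisible by `p`. -/
theorem dvd_orderOf_of_not_mem {c : G} (hc : c ∉ S) : p ∣ orderOf c := by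
  have h1 : orderOf (QuotientGroup.mk' S c) ∣ orderOf c := orderOf_map_dvd _ c
  have h2 : orderOf (QuotientGroup.mk' S c) ∣ p := by
    rw [← hidx, Subgroup.index_eq_card]
    exact orderOf_dvd_natCard _
  have h3 : QuotientGroup.mk' S c ≠ 1 := by
    intro h
    apply hc
    exact (QuotientGroup.eq_one_iff c).1 h
  rcases (Nat.dvd_prime hp).1 h2 with h4 | h4
  · exact absurd (orderOf_eq_one_iff.1 h4) h3
  · rw [← h4]
    exact h1

theorem not_mem_pow {c : G} (hc : c ∉ S) {k : ℕ} (hk : ¬ p ∣ k) : c ^ k ∉ S := by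
  intro h
  apply hc
  rw [← QuotientGroup.eq_one_iff] at h ⊢
  have h1 : ((c : G ⧸ S)) ^ k = 1 := by
    rw [← h]; rfl
  have h2 : ((c : G ⧸ S)) ^ p = 1 := by
    rw [← hidx, Subgroup.index_eq_card]
    exact pow_card_eq_one'
  have h3 : orderOf (c : G ⧸ S) ∣ Nat.gcd k p :=
    Nat.dvd_gcd (orderOf_dvd_of_pow_eq_one h1) (orderOf_dvd_of_pow_eq_one h2)
  rw [Nat.Coprime.gcd_eq_one ((Nat.Prime.coprime_iff_not_dvd hp).2 hk).symm, Nat.dvd_one] at h3
  exact orderOf_eq_one_iff.1 h3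

/-- A commuting pair: an involution and an element outside `S`. -/
theorem exists_two_mul_of_cent (hp2 : p ≠ 2) {t c : G} (ht : orderOf t = 2) (hc : c ∉ S) (htc : Commute t c) :
    ∃ y : G, orderOf y = 2 * p := by
  obtain ⟨z, hz, hzp⟩ := exists_order_of_dvd (dvd_orderOf_of_not_mem hp S hidx hc) hp.ne_zero
  obtain ⟨k, rfl⟩ := mem_zpowers_iff.1 hz
  exact exists_order_mul_of_commute Nat.prime_two hp hp2.symm ht hzp (htc.zpow_right k)

/-- **Swap lemma.** -/
theorem exists_two_mul_of_swap (hp2 : p ≠ 2) (D : Subgroup G) (hD : ¬ D ≤ S) {g : G} (hg : g ∉ D) (hgg : g * g ∈ D)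
    (hgD : ∀ d ∈ D, g * d * g⁻¹ ∈ D) : ∃ y : G, orderOf y = 2 * p := by
  classical
  have hpf := Fact.mk hp
  by_contra hcon
  -- a Sylow `p`-subgroup `P` of `D`
  let P : Sylow p ↥D := default
  -- conjugation by `g` on `D`
  have hgD' : ∀ d ∈ D, g⁻¹ * d * g ∈ D := by
    intro d hd
    have h1 : g⁻¹ * d * g = (g * g)⁻¹ * (g * d * g⁻¹) * (g * g) := by group
    rw [h1]
    exact mul_mem (mul_mem (inv_mem hgg) (hgD d hd)) hgg
  let φ : ↥D ≃* ↥D :=
    { toFun := fun d => ⟨g * d * g⁻¹, hgD d d.2⟩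
      invFun := fun d => ⟨g⁻¹ * d * g, hgD' d d.2⟩
      left_inv := fun d => Subtype.ext (by simp [mul_assoc])
      right_inv := fun d => Subtype.ext (by simp [mul_assoc])
      map_mul' := fun a b => Subtype.ext (by simp [mul_assoc]) }
  -- Frattini: some `g' ∈ D g` normalises `P`
  obtain ⟨d, hd⟩ := MulAction.exists_smul_eq ↥D P ((φ : MulAut ↥D) • P)
  have hmem : ∀ x : ↥D, d⁻¹ * x * d ∈ (P : Subgroup ↥D) ↔ φ.symm x ∈ (P : Subgroup ↥D) := by
    intro x
    have h1 : x ∈ ((d • P : Sylow p ↥D) : Subgroup ↥D) ↔ x ∈ ((((φ : MulAut ↥D) • P : Sylow p ↥D)) : Subgroup ↥D) := by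
      rw [hd]
    rw [Sylow.smul_def, Sylow.pointwise_smul_def, Sylow.pointwise_smul_def,
      Subgroup.mem_pointwise_smul_iff_inv_smul_mem, Subgroup.mem_pointwise_smul_iff_inv_smul_mem] at h1
    have h2 : (MulAut.conj d)⁻¹ • x = d⁻¹ * x * d := by
      rw [← map_inv, MulAut.smul_def, MulAut.conj_apply, inv_inv]
    rw [h2] at h1
    exact h1
  set g' : G := (d : G)⁻¹ * g with hg'
  have hg'D : g' ∉ D := by
    intro h
    apply hg
    have : g = (d : G) * g' := by rw [hg']; group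
    rw [this]
    exact mul_mem d.2 h
  have hg'2 : g' * g' ∈ D := by
    have h1 : g' * g' = (d : G)⁻¹ * (g * (d : G)⁻¹ * g⁻¹) * (g * g) := by rw [hg']; group
    rw [h1]
    exact mul_mem (mul_mem (inv_mem d.2) (hgD _ (inv_mem d.2))) hgg
  let P0 : Subgroup G := (P : Subgroup ↥D).map D.subtype
  have hP0 : ∀ x : G, x ∈ P0 ↔ ∃ h : x ∈ D, (⟨x, h⟩ : ↥D) ∈ (P : Subgroup ↥D) := by
    intro x
    constructor
    · rintro ⟨y, hy, rfl⟩
      exact ⟨y.2, hy⟩
    · rintro ⟨h, hx⟩
      exact ⟨_, hx, rfl⟩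
  have hgP : ∀ x ∈ P0, g' * x * g'⁻¹ ∈ P0 := by
    intro x hx
    obtain ⟨hxD, hxP⟩ := (hP0 x).1 hx
    have h1 : (⟨g * x * g⁻¹, hgD x hxD⟩ : ↥D) = φ ⟨x, hxD⟩ := rfl
    have h2 : d⁻¹ * (φ ⟨x, hxD⟩) * d ∈ (P : Subgroup ↥D) := by
      rw [hmem, φ.symm_apply_apply]
      exact hxP
    rw [hP0]
    have h3 : g' * x * g'⁻¹ = ((d⁻¹ * (φ ⟨x, hxD⟩) * d : ↥D) : G) := by
      show (d : G)⁻¹ * g * x * ((d : G)⁻¹ * g)⁻¹ = (d : G)⁻¹ * (g * x * g⁻¹) * d
      group
    rw [h3]
    exact ⟨SetLike.coe_mem _, h2⟩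
  -- an involution normalising `P0`
  have heven : 2 ∣ orderOf g' := by
    by_contra h2
    apply hg'D
    have hodd : Odd (orderOf g') := Nat.odd_iff.2 (by omega)
    obtain ⟨k, hk⟩ := hodd
    have h3 : g' = (g' * g') ^ (k + 1) := by
      rw [← pow_two, ← pow_mul, show 2 * (k + 1) = orderOf g' + 1 by omega, pow_succ, pow_orderOf_eq_one, one_mul]
    rw [h3]
    exact pow_mem hg'2 _
  obtain ⟨t, ht, ht2⟩ := exists_order_of_dvd heven two_ne_zero
  have htP : ∀ x ∈ P0, t * x * t⁻¹ ∈ P0 := by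
    obtain ⟨k, rfl⟩ := mem_powers_iff_mem_zpowers.2 ht
    have key : ∀ k : ℕ, ∀ x ∈ P0, g' ^ k * x * (g' ^ k)⁻¹ ∈ P0 := by
      intro k
      induction k with
      | zero => intro x hx; simpa using hx
      | succ k ih =>
        intro x hx
        have := hgP _ (ih x hx)
        have h1 : g' * (g' ^ k * x * (g' ^ k)⁻¹) * g'⁻¹ = g' ^ (k + 1) * x * (g' ^ (k + 1))⁻¹ := by
          rw [pow_succ']; group
        rwa [h1] at this
    exact key k
  -- `P0` is a `p`-group
  have hPp : ∀ x ∈ P0, ∃ k, x ^ p ^ k = 1 := by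
    intro x hx
    obtain ⟨hxD, hxP⟩ := (hP0 x).1 hx
    obtain ⟨k, hk⟩ := P.2 ⟨_, hxP⟩
    refine ⟨k, ?_⟩
    have h1 := congrArg (fun z : ↥(P : Subgroup ↥D) => ((z : ↥D) : G)) hk
    simpa using h1
  -- `t` acts without fixed points on `P0`
  have hfix : ∀ x ∈ P0, Commute t x → x = 1 := by
    intro x hx hcx
    by_contra hx1
    apply hcon
    obtain ⟨k, hk⟩ := hPp x hx
    have h1 : p ∣ orderOf x := by
      have h2 : orderOf x ∣ p ^ k := orderOf_dvd_of_pow_eq_one hk
      obtain ⟨j, -, hj⟩ := (Nat.dvd_prime_pow hp).1 h2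
      rw [hj]
      apply dvd_pow_self
      rintro rfl
      apply hx1
      rw [pow_zero] at hj
      exact orderOf_eq_one_iff.1 hj
    obtain ⟨z, hz, hzp⟩ := exists_order_of_dvd h1 hp.ne_zero
    obtain ⟨j, rfl⟩ := mem_zpowers_iff.1 hz
    exact exists_order_mul_of_commute Nat.prime_two hp hp2.symm ht2 hzp (hcx.zpow_right j)
  -- so `t` inverts `P0`
  have hinv : ∀ x ∈ P0, t * x * t⁻¹ = x⁻¹ := by
    have htt : t * t = 1 := by rw [← pow_two, ← ht2, pow_orderOf_eq_one]
    let f : ↥P0 → ↥P0 := fun z => ⟨(z : G)⁻¹ * (t * z * t⁻¹), mul_mem (inv_mem z.2) (htP z z.2)⟩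
    have hf : Function.Injective f := by
      intro a b hab
      have h1 : (a : G)⁻¹ * (t * a * t⁻¹) = (b : G)⁻¹ * (t * b * t⁻¹) := congrArg Subtype.val hab
      have h2 : Commute t ((b : G) * (a : G)⁻¹) := by
        have h3 : (b : G) * (a : G)⁻¹ = t * ((b : G) * (a : G)⁻¹) * t⁻¹ := by
          calc (b : G) * (a : G)⁻¹ = (b : G) * ((a : G)⁻¹ * (t * a * t⁻¹)) * (t * a * t⁻¹)⁻¹ := by group
            _ = (b : G) * ((b : G)⁻¹ * (t * b * t⁻¹)) * (t * a * t⁻¹)⁻¹ := by rw [h1]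
            _ = _ := by group
        show t * ((b : G) * (a : G)⁻¹) = (b : G) * (a : G)⁻¹ * t
        conv_rhs => rw [h3]
        group
      have h3 := hfix _ (mul_mem b.2 (inv_mem a.2)) h2
      exact Subtype.ext (mul_inv_eq_one.1 h3).symm
    have hs : Function.Surjective f := Finite.surjective_of_injective hf
    intro x hx
    obtain ⟨z, hz⟩ := hs ⟨x, hx⟩
    have h1 : (z : G)⁻¹ * (t * z * t⁻¹) = x := congrArg Subtype.val hz
    have htinv : t⁻¹ = t := inv_eq_of_mul_eq_one_right htt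
    rw [← h1, htinv]
    have e1 : t * ((z : G)⁻¹ * (t * z * t)) * t = t * (z : G)⁻¹ * t * z * (t * t) := by group
    have e2 : ((z : G)⁻¹ * (t * z * t))⁻¹ = t⁻¹ * (z : G)⁻¹ * t⁻¹ * z := by group
    rw [e1, e2, htt, mul_one, htinv]
  -- contradiction modulo `S`
  obtain ⟨x, hx, hxS⟩ : ∃ x ∈ P0, x ∉ S := by
    by_contra hall
    push Not at hall
    apply hD
    -- the image of `D` in `G / S` has order prime to `p`
    intro y hy
    by_contra hyS
    let Z : Subgroup ↥D := zpowers (⟨y, hy⟩ : ↥D)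
    have h1 : p ∣ (P : Subgroup ↥D).index := by
      have h2 : (P : Subgroup ↥D) ≤ S.subgroupOf D := by
        intro z hz
        exact hall z ((hP0 z).2 ⟨z.2, hz⟩)
      have h3 : (S.subgroupOf D).index ∣ (P : Subgroup ↥D).index := Subgroup.index_dvd_of_le h2
      have h4 : (S.subgroupOf D).index = p := by
        have h5 : (S.subgroupOf D).index ∣ p := by
          rw [← hidx]
          exact Subgroup.relIndex_dvd_index_of_normal S D
        rcases (Nat.dvd_prime hp).1 h5 with h6 | h6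
        · exfalso
          rw [Subgroup.index_eq_one, Subgroup.subgroupOf_eq_top] at h6
          exact hyS (h6 hy)
        · exact h6
      rwa [h4] at h3
    exact P.not_dvd_index h1
  have h1 := hinv x hx
  have h2 : ((x : G ⧸ S)) * x = 1 := by
    have h3 : ∀ a b : G ⧸ S, a * b = b * a := by
      have hcyc : IsCyclic (G ⧸ S) := isCyclic_of_prime_card (p := p) (by rw [← hidx, Subgroup.index_eq_card])
      intro a b
      exact hcyc.commGroup.mul_comm a b
    have h4 : ((t * x * t⁻¹ : G) : G ⧸ S) = ((x⁻¹ : G) : G ⧸ S) := by rw [h1]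
    rw [QuotientGroup.mk_mul, QuotientGroup.mk_mul, QuotientGroup.mk_inv, QuotientGroup.mk_inv, h3 (t : G ⧸ S) x,
      mul_inv_cancel_right] at h4
    calc ((x : G ⧸ S)) * x = (x : G ⧸ S)⁻¹ * x := by rw [← h4]
      _ = 1 := inv_mul_cancel _
  have h3 : x ^ 2 ∉ S := not_mem_pow hp S hidx hxS (fun h => hp2 ((Nat.prime_dvd_prime_iff_eq hp Nat.prime_two).1 h))
  apply h3
  rw [← QuotientGroup.eq_one_iff, pow_two, QuotientGroup.mk_mul]
  exact h2

end index

end Cfsg.Agent.H414.Adj
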